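import Cfsg.Agent.Lib.FischerGen.Problem
import Cfsg.Agent.Lib.ZStar.Glauberman
import Cfsg.Agent.Lib.ZStarPrimePower.Proved

/-!
# There is no counterexample of least order

`Ctx.false`: a `Ctx` is contradictory.
-/

set_option autoImplicit false
set_option linter.style.haveILetI false

open scoped commutatorElement ComplexConjugate

namespace Cfsg.Agent.FischerGen

open Subgroup

universe u

variable {G : Type u} [Group G]

theorem odd_card_sup_normal [Finite G] (N K : Subgroup G) [N.Normal] (hN : Odd (Nat.card N))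
    (hK : Odd (Nat.card K)) : Odd (Nat.card (N ⊔ K : Subgroup G)) := by
  refine Odd.of_dvd_nat (hN.mul hK) ?_
  set f := (QuotientGroup.mk' N).comp (N ⊔ K).subtype with hf
  have hrange : f.range = K.map (QuotientGroup.mk' N) := by
    rw [hf, MonoidHom.range_comp, range_subtype, Subgroup.map_sup, QuotientGroup.map_mk'_self,
      bot_sup_eq]
  have hker : f.ker = N.subgroupOf (N ⊔ K) := by
    ext x
    simp [hf, mem_subgroupOf, MonoidHom.mem_ker, QuotientGroup.eq_one_iff]
  rw [← f.ker.card_mul_index, Subgroup.index_ker, hker,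
    Cores.card_subgroupOf (le_sup_left : N ≤ N ⊔ K), hrange]
  exact Nat.mul_dvd_mul dvd_rfl (card_map_dvd K _)

namespace Ctx

variable {p q : ℕ} {D : Set (Subgroup G)} [Finite G] (c : Ctx p q D)
include c

theorem odd_pCore : Odd (Nat.card (Cfsg.pCore q G)) := by
  haveI := Fact.mk c.qprime
  obtain ⟨n, hn⟩ := IsPGroup.iff_card.1 (Cores.isPGroup_pCore q G)
  exact hn ▸ (c.qprime.odd_of_ne_two c.q_ne_two).pow

theorem exists_fixed_invol {t : G} (ht : t * t = 1) : ∃ f ∈ D, f ≤ cen t := by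
  haveI : Fact (Nat.Prime 2) := ⟨Nat.prime_two⟩
  have h2 : IsPGroup 2 (zpowers t) := fun x => ⟨1, by
    obtain ⟨i, hi⟩ := mem_zpowers_iff.1 x.2
    refine Subtype.ext ?_
    push_cast
    rw [← hi, sq, ← zpow_add, show i + i = 2 * i by ring, zpow_mul, zpow_two, ht, one_zpow]⟩
  obtain ⟨f, hf, hfix⟩ := c.toSetup.exists_fixed h2
  exact ⟨f, hf, c.toSetup.le_cen_of_invol ht hf (cj_eq_of_mem_normalizer (hfix (mem_zpowers t)))⟩

/-- An involution central modulo an odd normal subgroup is impossible. -/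
theorem false_of_conj_mem {j : G} (hj : j * j = 1) (hj1 : j ≠ 1) (N : Subgroup G) [N.Normal]
    (hN : Odd (Nat.card N)) (h : ∀ g, g * j * g⁻¹ * j ∈ N) : False := by
  have key : ∀ g, ∃ n ∈ N, n⁻¹ * g ∈ cen j := by
    intro g
    obtain ⟨n, hn, e, he, hej, heq⟩ := exists_conj_form hN hj (normalizer_eq_top N ▸ mem_top j) (h g)
    have hx : g * j * g⁻¹ * j * j = g * j * g⁻¹ := by rw [mul_assoc, hj, mul_one]
    rw [hx] at heq
    have h2 : (e * j) * (e * j) = 1 := by
      rw [← heq]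
      calc n⁻¹ * (g * j * g⁻¹) * n * (n⁻¹ * (g * j * g⁻¹) * n) = n⁻¹ * (g * (j * j) * g⁻¹) * n := by group
        _ = 1 := by rw [hj]; group
    have he1 : e = 1 := by
      refine ZStar.eq_one_of_odd_of_sq (hN.of_dvd_nat (Subgroup.orderOf_dvd_natCard N he)) ?_
      calc e ^ 2 = e * e * (j * j) := by rw [hj, mul_one, sq]
        _ = e * (e * j) * j := by group
        _ = e * (j * e) * j := by rw [hej.eq]
        _ = (e * j) * (e * j) := by group
        _ = 1 := h2
    rw [he1, one_mul] at heq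
    refine ⟨n, hn, mem_cen.2 ?_⟩
    calc n⁻¹ * g * j = n⁻¹ * (g * j * g⁻¹) * n * (n⁻¹ * g) := by group
      _ = j * (n⁻¹ * g) := by rw [heq]
  obtain ⟨f, hf, hfj⟩ := c.exists_fixed_invol hj
  have hK : N ⊔ gen D (cen j) = ⊤ := by
    refine top_le_iff.1 (c.generates.ge.trans (sSup_le fun B hB => ?_))
    by_cases hne : f = B
    · exact hne ▸ (le_gen hf hfj).trans le_sup_right
    obtain ⟨g, -, rfl⟩ := c.exists_conj hf hB hne
    obtain ⟨n, hn, hm⟩ := key g
    rw [show cj g f = cj n (cj (n⁻¹ * g) f) by rw [cj_mul, mul_inv_cancel_left]]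
    exact cj_le_of_mem (mem_sup_left hn)
      ((le_gen (c.conj_mem f hf _) (cj_le_of_mem hm hfj)).trans le_sup_right)
  have := odd_card_sup_normal N _ hN (c.small _ (c.cen_ne_top_of_invol hj hj1))
  rw [hK, card_top] at this
  exact c.not_odd this

/-- `t` inverts modulo `O_q(G)` the elements moving a fixed member. -/
theorem shift_single (hnab : Nab D) {t : G} (ht : t * t = 1) (ht1 : t ≠ 1)
    (hY : der D (cen t) ≤ Cfsg.pCore q G) {H f : Subgroup G} (hf : f ∈ D) (hfH : f ≤ H)
    (hodd : Odd (Nat.card (gen D H))) (hft : f ≤ cen t) (htH : t ∈ normalizer (H : Set G))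
    {k : G} (hk : k ∈ der D H) :
    ∃ s ∈ Cfsg.pCore q G, s ∈ der D H ∧ ∃ e ∈ der D H,
      (∀ g ∈ gen D H, g * e = e * g) ∧ t * k * t = k⁻¹ * (s * e) := by
  set R := der D H with hR
  set Q := Cfsg.pCore q G with hQ
  have htR : t ∈ normalizer (R : Set G) := c.normalizer_le_der H htH
  have hkt : t * k * t ∈ R := by
    have := (mem_normalizer_iff.1 htR k).1 hk
    rwa [inv_of_sq ht] at this
  set v := k * (t * k * t) with hv
  have hvR : v ∈ R := mul_mem hk hkt
  have hcc : t * v * t = v * ⁅(t * k * t)⁻¹, k⁻¹⁆ := by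
    calc t * v * t = t * k * t * k * (t * t) := by rw [hv]; group
      _ = v * ⁅(t * k * t)⁻¹, k⁻¹⁆ := by rw [ht, mul_one, hv, commutatorElement_def]; group
  have hfix : cj t (cj v f) = cj v f := by
    calc cj t (cj v f) = cj (t * v * t * t) f := by rw [cj_mul, mul_assoc, ht, mul_one]
      _ = cj (t * v * t) f := by rw [← cj_mul, Setup.cj_eq_of_le_cen hft]
      _ = cj v f := by
        rw [hcc, ← cj_mul, cj_eq_of_commute (g := ⁅(t * k * t)⁻¹, k⁻¹⁆) fun x hx =>
          (mem_centralizer_iff.1 (c.toSetup.der_comm hf hfH hodd hnab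
            (commutator_mem_commutator (inv_mem hkt) (inv_mem hk))) x (le_gen hf hfH hx)).symm]
  have hvt : cj v f ≤ cen t := c.toSetup.le_cen_of_invol ht (c.conj_mem f hf v) hfix
  obtain ⟨r, hr, hrv⟩ := c.exists_point hf hft (c.small _ (c.cen_ne_top_of_invol ht ht1))
    (c.conj_mem f hf v) hvt
  set H' := (Q ⊔ f) ⊓ H with hH'
  have hfH' : f ≤ H' := le_inf le_sup_right hfH
  have hvH' : cj v f ≤ H' := le_inf (hrv ▸ cj_le_of_mem (mem_sup_left (hY hr)) le_sup_right)
    (c.point_le hf hfH hodd hvR)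
  have hodd' : Odd (Nat.card (gen D H')) :=
    hodd.of_dvd_nat (card_dvd_of_le (gen_mono inf_le_right))
  obtain ⟨s, hs, hsv⟩ := c.exists_point hf hfH' hodd' (c.conj_mem f hf v) hvH'
  have hsR : s ∈ R := der_mono inf_le_right hs
  have hsQ : s ∈ Q := by
    obtain ⟨a, rfl, -⟩ := c.exists_gen hf
    refine commutator_zpowers_sup_le (normalizer_eq_top Q ▸ mem_top a) ?_
    have h1 : gen D H' ≤ zpowers a ⊔ Q := gen_le.trans (inf_le_left.trans (le_of_eq (sup_comm _ _)))
    exact commutator_mono h1 h1 hs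
  have he : s⁻¹ * v ∈ R := mul_mem (inv_mem hsR) hvR
  have hef : cj (s⁻¹ * v) f = f := by rw [← cj_mul, hsv, cj_inv_cj]
  refine ⟨s, hsQ, hsR, s⁻¹ * v, he, fun g hg => mem_centralizer_iff.1
    (c.toSetup.fixed_mem_centralizer hf hfH hodd he
      (fun x hx => c.commute_of_cj_eq hf hfH hodd he hef hx)) g hg, ?_⟩
  rw [mul_inv_cancel_left, hv, inv_mul_cancel_left]

/-- An involution `t` and a conjugate commuting with it contradict `der D (C(t)) ≤ O_q(G)`. -/
theorem false_of_commuting (hnab : Nab D) {t u : G} (ht : t * t = 1) (hu : u * u = 1) (ht1 : t ≠ 1)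
    (hu1 : u ≠ 1) (hne : u ≠ t) (htu : Commute t u) (hYt : der D (cen t) ≤ Cfsg.pCore q G)
    (hYu : der D (cen u) ≤ Cfsg.pCore q G) : False := by
  haveI : Fact (Nat.Prime 2) := ⟨Nat.prime_two⟩
  set Q := Cfsg.pCore q G with hQ
  set j := t * u with hjdef
  have hj : j * j = 1 := by
    calc j * j = t * (u * t) * u := by rw [hjdef]; group
      _ = t * t * (u * u) := by rw [← htu.eq]; group
      _ = 1 := by rw [ht, hu, one_mul]
  have hj1 : j ≠ 1 := fun h => hne (by
    rw [hjdef, mul_eq_one_iff_inv_eq, inv_of_sq ht] at h; exact h.symm)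
  -- a common fixed member
  have hp2 : ∀ {x : G}, x * x = 1 → x ≠ 1 → IsPGroup 2 (zpowers x) := fun {x} hx hx1 =>
    IsPGroup.of_card (n := 1) (by rw [Nat.card_zpowers, orderOf_eq_prime (by rw [sq, hx]) hx1, pow_one])
  have hT : IsPGroup 2 (zpowers t ⊔ zpowers u : Subgroup G) :=
    (hp2 ht ht1).to_sup_of_normal_right' (hp2 hu hu1) (zpowers_le.2 (mem_normalizer_iff_cj.2
      (cj_eq_of_commute fun x hx => by
        obtain ⟨i, rfl⟩ := mem_zpowers_iff.1 hx
        exact (htu.zpow_right i).eq).le))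
  obtain ⟨f, hf, hfix⟩ := c.toSetup.exists_fixed hT
  have hft : f ≤ cen t := c.toSetup.le_cen_of_invol ht hf
    (cj_eq_of_mem_normalizer (hfix (mem_sup_left (mem_zpowers t))))
  have hfu : f ≤ cen u := c.toSetup.le_cen_of_invol hu hf
    (cj_eq_of_mem_normalizer (hfix (mem_sup_right (mem_zpowers u))))
  have hfodd : Odd (Nat.card f) := by rw [c.card f hf]; exact c.prime.odd_of_ne_two c.ne_two
  -- `j` maps every member into `Q ⊔` itself
  have hmove : ∀ C ∈ D, cj j C ≤ Q ⊔ C := by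
    intro C hC
    set H := Q ⊔ (f ⊔ C) with hH
    have hfH : f ≤ H := le_sup_of_le_right le_sup_left
    have hCH : C ≤ H := le_sup_of_le_right le_sup_right
    have hodd : Odd (Nat.card (gen D H)) := by
      refine Odd.of_dvd_nat (odd_card_sup_normal Q (f ⊔ C) c.odd_pCore ?_) (card_dvd_of_le gen_le)
      by_cases e : f = C
      · rw [← e, sup_idem]; exact hfodd
      · exact c.odd f hf C hC e
    have hnorm : ∀ {x : G}, x * x = 1 → x ≠ 1 → f ≤ cen x → der D (cen x) ≤ Q →
        x ∈ normalizer (H : Set G) := by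
      intro x hx hx1 hfx hYx
      rw [mem_normalizer_iff_cj, hH, cj, Subgroup.map_sup, Subgroup.map_sup]
      refine sup_le (le_sup_of_le_left
        (cj_eq_of_mem_normalizer (normalizer_eq_top Q ▸ mem_top x)).le)
        (sup_le ((Setup.cj_eq_of_le_cen hfx).le.trans hfH) ?_)
      by_cases hfixC : C = cj x C
      · exact hfixC.ge.trans hCH
      obtain ⟨E, hE, hEF, hEx⟩ := c.toSetup.exists_centre hx hC hfixC
      have hCE : C ≠ E := fun e => hfixC (Setup.cj_eq_of_le_cen (e ▸ hEx)).symm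
      obtain ⟨r, hr, hrE⟩ := c.exists_point hf hfx (c.small _ (c.cen_ne_top_of_invol hx hx1)) hE hEx
      have hEH : E ≤ H := hrE ▸ cj_le_of_mem (mem_sup_left (hYx hr)) hfH
      calc cj x C ≤ C ⊔ cj x C := le_sup_right
        _ = C ⊔ E := (c.pair_eq hC (c.conj_mem C hC x) hfixC hC hE hCE le_sup_left hEF).symm
        _ ≤ H := sup_le hCH hEH
    have htH := hnorm ht ht1 hft hYt
    have huH := hnorm hu hu1 hfu hYu
    obtain ⟨k, hk, hCk⟩ := c.exists_point hf hfH hodd hC hCH
    obtain ⟨s, hsQ, hsR, e, he, hec, htk⟩ := c.shift_single hnab ht ht1 hYt hf hfH hodd hft htH hk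
    obtain ⟨s', hs'Q, hs'R, e', he', he'c, huk⟩ := c.shift_single hnab hu hu1 hYu hf hfH hodd hfu huH hk
    have htR : t ∈ normalizer (der D H : Set G) := c.normalizer_le_der H htH
    have htinv := inv_of_sq ht
    set s'' := t * s' * t⁻¹ with hs''
    have hs''R : s'' ∈ der D H := (mem_normalizer_iff.1 htR s').1 hs'R
    have hs''Q : s'' ∈ Q := (Cores.pCore_normal q G).conj_mem s' hs'Q t
    have hjk : j * k * j⁻¹ = e⁻¹ * (s⁻¹ * k * s'') * (t * e' * t⁻¹) := by
      calc j * k * j⁻¹ = t * (u * k * u) * t⁻¹ := by rw [hjdef, mul_inv_rev, inv_of_sq hu]; group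
        _ = (t * k * t⁻¹)⁻¹ * (t * s' * t⁻¹) * (t * e' * t⁻¹) := by rw [huk]; group
        _ = e⁻¹ * (s⁻¹ * k * s'') * (t * e' * t⁻¹) := by rw [htinv, htk, hs'', htinv]; group
    have hjf : cj j f = f := by
      rw [hjdef, ← cj_mul, Setup.cj_eq_of_le_cen hfu, Setup.cj_eq_of_le_cen hft]
    have he'f : cj (t * e' * t⁻¹) f = f := cj_eq_of_commute fun x hx => by
      have h1 : Commute x t := mem_cen.1 (hft hx)
      have h2 : Commute x e' := he'c x (le_gen hf hfH hx)
      exact ((h1.mul_right h2).mul_right h1.inv_right).symm.eq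
    set X := cj (s⁻¹ * k * s'') f with hX
    have hXgen : X ≤ gen D H := cj_le_of_mem
      (der_le_gen (mul_mem (mul_mem (inv_mem hsR) hk) hs''R)) (le_gen hf hfH)
    have hjC : cj j C = X := by
      calc cj j C = cj (j * k * j⁻¹) (cj j f) := by rw [hCk, cj_mul, cj_mul, inv_mul_cancel_right]
        _ = cj e⁻¹ X := by rw [hjf, hjk, ← cj_mul, he'f, hX, cj_mul]
        _ = X := cj_eq_of_commute fun x hx =>
          ((show Commute x e from hec x (hXgen hx)).inv_right).symm.eq
    rw [hjC, hX, show s⁻¹ * k * s'' = s⁻¹ * (k * s'' * k⁻¹) * k by group, ← cj_mul, ← hCk]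
    exact cj_le_of_mem
      (mem_sup_left (mul_mem (inv_mem hsQ) ((Cores.pCore_normal q G).conj_mem s'' hs''Q k))) le_sup_right
  -- so `j` is central modulo `Q`
  set π := QuotientGroup.mk' Q with hπ
  set K := (centralizer ({π j} : Set (G ⧸ Q))).comap π with hK
  have hKtop : K = ⊤ := by
    refine top_le_iff.1 (c.generates.ge.trans (sSup_le fun C hC => ?_))
    have hCodd : Odd (Nat.card C) := by rw [c.card C hC]; exact c.prime.odd_of_ne_two c.ne_two
    obtain ⟨s, hsQ, hsC⟩ : ∃ s ∈ Q, cj s C ≤ cen j := by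
      by_cases hfixC : C = cj j C
      · exact ⟨1, one_mem _, by rw [cj_one]; exact c.toSetup.le_cen_of_invol hj hC hfixC.symm⟩
      obtain ⟨E, hE, hEF, hEj⟩ := c.toSetup.exists_centre hj hC hfixC
      obtain ⟨s, hs, rfl⟩ := c.exists_point hC (H := Q ⊔ C) le_sup_right
        ((odd_card_sup_normal Q C c.odd_pCore hCodd).of_dvd_nat (card_dvd_of_le gen_le)) hE
        (hEF.trans (sup_le le_sup_right (hmove C hC)))
      refine ⟨s, ?_, hEj⟩
      obtain ⟨a, rfl, -⟩ := c.exists_gen hC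
      refine commutator_zpowers_sup_le (normalizer_eq_top Q ▸ mem_top a) ?_
      have h1 : gen D (Q ⊔ zpowers a) ≤ zpowers a ⊔ Q := gen_le.trans (le_of_eq (sup_comm _ _))
      exact commutator_mono h1 h1 hs
    intro x hx
    rw [hK, mem_comap, mem_centralizer_singleton_iff]
    have h1 : π (s * x * s⁻¹) * π j = π j * π (s * x * s⁻¹) := by
      rw [← map_mul, ← map_mul, mem_cen.1 (hsC (conj_mem_cj hx))]
    have hπs : π s = 1 := (QuotientGroup.eq_one_iff s).2 hsQ
    simpa [map_mul, map_inv, hπs] using h1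
  refine c.false_of_conj_mem hj hj1 Q c.odd_pCore fun g => (QuotientGroup.eq_one_iff _).1 ?_
  have hg : π g * π j = π j * π g := mem_centralizer_singleton_iff.1 (mem_comap.1 (hKtop ▸ mem_top g : g ∈ K))
  show π (g * j * g⁻¹ * j) = 1
  rw [map_mul, map_mul, map_mul, map_inv, hg, mul_inv_cancel_right, ← map_mul, hj, map_one]

/-- `der D (C(t)) ≤ O_q(G)` is impossible. -/
theorem false_of_single (hnab : Nab D) {t : G} (ht : t * t = 1) (ht1 : t ≠ 1)
    (hY : der D (cen t) ≤ Cfsg.pCore q G) : False := by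
  haveI : Fact (Nat.Prime 2) := ⟨Nat.prime_two⟩
  by_cases hiso : IsIsolatedInvolution t
  · refine c.false_of_conj_mem ht ht1 (Cfsg.pPrimeCore 2 G)
      (Nat.coprime_two_right.1 (Cores.coprime_card_pPrimeCore 2)) fun g => ?_
    have h := inv_mem (ZStar.zStar_of_brauerSuzuki ZStarPrimePower.uniqueInvolutionZStar_proved hiso g)
    simpa [mul_assoc, inv_of_sq ht] using h
  · obtain ⟨g, hc, hne⟩ : ∃ g, Commute t (g * t * g⁻¹) ∧ g * t * g⁻¹ ≠ t := by
      by_contra hno
      push Not at hno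
      exact hiso ⟨orderOf_eq_prime (by rw [sq, ht]) ht1, hno⟩
    have hu : g * t * g⁻¹ * (g * t * g⁻¹) = 1 := by
      calc g * t * g⁻¹ * (g * t * g⁻¹) = g * (t * t) * g⁻¹ := by group
        _ = 1 := by rw [ht, mul_one, mul_inv_cancel]
    have hu1 : g * t * g⁻¹ ≠ 1 := fun h => ht1 (by
      rw [mul_inv_eq_one, mul_eq_left] at h; exact h)
    have hYu : der D (cen (g * t * g⁻¹)) ≤ Cfsg.pCore q G := by
      rw [← cj_cen, ← c.cj_der]
      exact (cj_mono hY).trans
        (cj_eq_of_mem_normalizer (normalizer_eq_top (Cfsg.pCore q G) ▸ mem_top g)).le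
    exact c.false_of_commuting hnab ht hu ht1 hu1 hne hc hY hYu

/-- Without problems every member times `t` is conjugate to an element of `O(C(t)) t`. -/
theorem exists_conj_core {t : G} (ht : t * t = 1) (ht1 : t ≠ 1)
    (hno : ∀ z f C, ¬ Problem D t z f C) {x : G} (hx : zpowers x ∈ D) :
    ∃ h e, e ∈ coreO t ∧ h⁻¹ * (x * t) * h = e * t := by
  have hfixO : ∀ B ∈ D, B ≤ cen t → B ≤ coreO t := fun B hB hBt => (le_gen hB hBt).trans
    (le_coreO gen_le (le_normalizer.trans (c.normalizer_le_gen (cen t)))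
      (c.small _ (c.cen_ne_top_of_invol ht ht1)))
  set B := zpowers x with hB
  by_cases hfixB : B = cj t B
  · exact ⟨1, x, hfixO B hx (c.toSetup.le_cen_of_invol ht hx hfixB.symm) (mem_zpowers x), by simp⟩
  set F := B ⊔ cj t B with hF
  have hBt : cj t B ∈ D := c.conj_mem B hx t
  have hoddF : Odd (Nat.card F) := c.odd B hx _ hBt hfixB
  have htF : t ∈ normalizer (F : Set G) := Setup.mem_normalizer_pair ht B
  obtain ⟨f, hf, hfF, hft⟩ := c.toSetup.exists_centre ht hx hfixB
  obtain ⟨h, hh, e, he, het, heq⟩ := exists_conj_form hoddF ht htF (mem_sup_left (mem_zpowers x) : x ∈ F)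
  refine ⟨h, e, ?_, heq⟩
  have heM : e ∈ cen t := mem_cen.2 het.eq
  have hef : cj e f = f := c.toSetup.centre_unique ht hx hfixB (c.conj_mem f hf e) hf
    (cj_le_of_mem he hfF) hfF (Setup.cj_eq_of_le_cen ((cj_mono hft).trans (cj_eq_of_mem heM).le))
    (Setup.cj_eq_of_le_cen hft)
  have hgF : gen D F = F := c.gen_pair hx hBt
  have hodd : Odd (Nat.card (gen D F)) := c.odd_pair hx hBt hfixB
  obtain ⟨r, hr, y, hy, rfl⟩ := c.exists_mul hf hfF hodd (hgF.ge he)
  have hrf : cj r f = f := by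
    rw [← cj_mul, cj_eq_of_mem hy] at hef
    exact hef
  have hrM : r ∈ cen t := by
    simpa using mul_mem heM (inv_mem (hft hy))
  refine mul_mem ?_ (hfixO f hf hft hy)
  by_contra hrO
  exact hno r f B ⟨hf, hft, hx, hfixB, hfF, hr,
    le_cen_iff.2 fun w hw => c.commute_of_cj_eq hf hfF hodd hr hrf hw, hrM, hrO⟩

/-- No problems is impossible. -/
theorem false_of_no_problem {t : G} (ht : t * t = 1) (ht1 : t ≠ 1)
    (hno : ∀ z f C, ¬ Problem D t z f C) : False := by
  classical
  haveI : Fact (Nat.Prime 2) := ⟨Nat.prime_two⟩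
  obtain ⟨M, hM⟩ := Blocks.exists_isPModular Nat.prime_two
  have := Fintype.ofFinite G
  have := Fintype.ofFinite (IrrCharacter G)
  have ht2 : orderOf t = 2 := orderOf_eq_prime (by rw [sq, ht]) ht1
  have key : ∀ χ ∈ principalBlock M G, ∀ x : G, zpowers x ∈ D →
      (χ : G → ℂ) (x * t) = (χ : G → ℂ) t := by
    intro χ hχ x hx
    obtain ⟨h, e, he, heq⟩ := c.exists_conj_core ht ht1 hno hx
    rw [Blocks.classFunction_eq_of_isConj (Char.IsIrrCharacter.isClassFunction χ.2)
      (x := x * t) (y := e * t) (isConj_iff.2 ⟨h⁻¹, by rw [inv_inv]; exact heq⟩),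
      mem_cen.1 (coreO_le he)]
    exact ZStar.apply_mul_eq hM ⟨1, by rw [pow_one, ht2]⟩ (coreO t) not_two_dvd_coreO
      (fun o ho => mem_cen.1 (coreO_le ho))
      (fun g hg o ho => (mem_normalizer_iff.1 (cen_le_normalizer_coreO (mem_cen.2 hg.eq)) o).1 ho) he hχ
  have horth : ∑ χ : IrrCharacter G,
      Blocks.blockInd (principalBlock M G) χ * ((χ : G → ℂ) 1 * (χ : G → ℂ) t) = 0 := by
    have h := Blocks.weak_orth hM (Blocks.blockInd_mem_intRing hM (ZStar.principal_isPBlock hM G))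
      (x := 1) (y := t) (by rw [orderOf_one]; norm_num) (by rw [ht2])
    rw [finsum_mem_def, finsum_eq_sum_of_fintype] at h
    rw [← h]
    refine Finset.sum_congr rfl fun χ _ => ?_
    by_cases hχ : χ ∈ principalBlock M G
    · rw [Set.indicator_of_mem hχ, Blocks.blockInd_of_mem hχ, one_mul,
        ← Char.IsCharacter.apply_inv (Char.IsIrrCharacter.isCharacter χ.2), inv_of_sq ht]
    · rw [Set.indicator_of_notMem hχ, Blocks.blockInd_of_notMem hχ, zero_mul]
  obtain ⟨χ, hχ, hne, hχt⟩ : ∃ χ ∈ principalBlock M G, χ ≠ BrauerPairs.oneIrr G ∧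
      (χ : G → ℂ) t ≠ 0 := by
    by_contra hc
    push Not at hc
    rw [Finset.sum_eq_single (BrauerPairs.oneIrr G)] at horth
    · rw [Blocks.blockInd_of_mem (BrauerPairs.oneIrr_mem_principal hM)] at horth
      norm_num [BrauerPairs.oneIrr] at horth
    · intro χ _ hne
      by_cases hχ : χ ∈ principalBlock M G
      · rw [hc χ hχ hne, mul_zero, mul_zero]
      · rw [Blocks.blockInd_of_notMem hχ, zero_mul]
    · simp
  obtain ⟨n, ρ, hirr, hρ⟩ := χ.2
  have hfr : (Module.finrank ℂ (Fin n → ℂ) : ℂ) = (χ : G → ℂ) 1 := by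
    rw [← hρ, Representation.char_one]
  have hval : ∀ a : G, zpowers a ∈ D → (χ : G → ℂ) a = (χ : G → ℂ) 1 := by
    intro a ha
    have h := CharApp.sum_char_conj_mul ρ a t
    have hsum : ∀ b : G, (χ : G → ℂ) (b * a * b⁻¹ * t) = (χ : G → ℂ) t := fun b =>
      key χ hχ _ (Hyp.cj_zpowers b a ▸ c.conj_mem _ ha b)
    rw [hρ, hfr, Finset.sum_congr rfl (fun b _ => hsum b), Finset.sum_const, nsmul_eq_mul,
      Finset.card_univ, ← Nat.card_eq_fintype_card] at h
    have h1 := Blocks.irr_one_ne_zero χ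
    field_simp at h
    exact h.symm
  have hker : ∀ A ∈ D, A ≤ MonoidHom.ker ρ := by
    intro A hA
    obtain ⟨a, rfl, -⟩ := c.exists_gen hA
    refine zpowers_le.2 (MonoidHom.mem_ker.2 (Frobenius.apply_eq_one_of_char_pow ρ a fun x hx => ?_))
    rw [hρ, hfr]
    by_cases hx1 : x = 1
    · rw [hx1]
    · refine hval x ?_
      have hle : zpowers x ≤ zpowers a := zpowers_le.2 hx
      have he : zpowers x = zpowers a := by
        refine eq_of_le_of_card_ge hle ?_
        have hd : Nat.card (zpowers x) ∣ p := c.card _ hA ▸ card_dvd_of_le hle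
        rcases (Nat.dvd_prime c.prime).1 hd with e | e
        · exact absurd (orderOf_eq_one_iff.1 (Nat.card_zpowers x ▸ e)) hx1
        · rw [e, c.card _ hA]
      exact he ▸ hA
  have htop : MonoidHom.ker ρ = ⊤ := top_le_iff.1 (c.generates.ge.trans (sSup_le hker))
  have hval' : ∀ g, (χ : G → ℂ) g = (χ : G → ℂ) 1 := by
    intro g
    have h1 : ρ g = 1 := MonoidHom.mem_ker.1 (show g ∈ MonoidHom.ker ρ from htop ▸ mem_top g)
    rw [← hρ]
    show LinearMap.trace ℂ _ (ρ g) = LinearMap.trace ℂ _ (ρ 1)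
    rw [h1, map_one ρ]
  have h2 := Char.classInner_irr_of_ne χ.2 (BrauerPairs.oneIrr G).2 fun he => hne (Subtype.ext he)
  simp [classInner, BrauerPairs.oneIrr, hval'] at h2
  exact Blocks.irr_one_ne_zero χ h2

/-- There is no counterexample of least order. -/
theorem false : False := by
  haveI : Fact (Nat.Prime 2) := ⟨Nat.prime_two⟩
  obtain ⟨t, ht2⟩ := exists_prime_orderOf_dvd_card' 2 (even_iff_two_dvd.1 (Nat.not_odd_iff_even.1 c.not_odd))
  have ht : t * t = 1 := by rw [← sq, ← ht2, pow_orderOf_eq_one]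
  have ht1 : t ≠ 1 := fun h => by rw [h, orderOf_one] at ht2; omega
  rcases c.no_problem_or_single ht ht1 with h | ⟨hnab, hY⟩
  · exact c.false_of_no_problem ht ht1 h
  · exact c.false_of_single hnab ht ht1 hY

end Ctx

end Cfsg.Agent.FischerGen
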