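import Cfsg.Agent.Lib.Solvable.Basic
import Mathlib.GroupTheory.Sylow
import Mathlib.GroupTheory.Nilpotent

/-!
# Generic lemmas for groups generated by a class of elements of prime order (S3257)

* `commutator_isPGroup`: if a solvable group is the normal closure of `a` and all `⁅x, a⁆` are
  `q`-elements, its derived subgroup is a `q`-group;
* `fixed_eq_one`: an automorphism of odd prime order of a `q`-group `R` such that the `r⁻¹ α r`
  generate `R` and commute with their images is fixed point free;
* `commutator_zpowers_sup_le`.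
-/

set_option autoImplicit false
set_option linter.style.haveILetI false

open scoped commutatorElement

namespace Cfsg.Agent.FischerGen

open Subgroup

universe u

/-! ### Derived subgroup of a solvable group generated by the class of `a` -/

theorem commutator_isPGroup_aux {p q : ℕ} (hq : q.Prime) (n : ℕ) :
    ∀ (W : Type u) [Group W] [Finite W] [Group.IsSolvable W] (a : W), Nat.card W = n →
      a ^ p = 1 → normalClosure {a} = (⊤ : Subgroup W) →
      (∀ x : W, ∃ k : ℕ, ⁅x, a⁆ ^ q ^ k = 1) → IsPGroup q (commutator W) := by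
  induction n using Nat.strong_induction_on with
  | _ n ih =>
    intro W _ _ _ a hn hap hgen hqel
    haveI := Fact.mk hq
    by_cases hbot : commutator W = ⊥
    · rw [hbot]; exact IsPGroup.of_bot
    obtain ⟨r, hr, M, hMn, hM0, hMle, -, hMr, -, -⟩ :=
      Solvable.exists_minimal_normal_pGroup (N := commutator W) hbot
    haveI := hMn
    haveI := Fact.mk hr
    set f := QuotientGroup.mk' M with hf
    have hsurj : Function.Surjective f := QuotientGroup.mk'_surjective M
    have hlt : Nat.card (W ⧸ M) < n := by
      rw [← hn, Subgroup.card_eq_card_quotient_mul_card_subgroup M]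
      exact lt_mul_of_one_lt_right Nat.card_pos ((Subgroup.one_lt_card_iff_ne_bot M).2 hM0)
    haveI : Group.IsSolvable (W ⧸ M) := inferInstance
    have hgen' : normalClosure {f a} = (⊤ : Subgroup (W ⧸ M)) := by
      rw [eq_top_iff]
      rintro y -
      obtain ⟨x, rfl⟩ := hsurj y
      have hx : x ∈ normalClosure {a} := hgen ▸ mem_top x
      have h1 : normalClosure {a} ≤ (normalClosure {f a}).comap f :=
        normalClosure_le_normal (Set.singleton_subset_iff.2 (subset_normalClosure rfl))
      exact h1 hx
    have hQ := ih _ hlt (W ⧸ M) (f a) rfl (by rw [← map_pow, hap, map_one]) hgen'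
      (fun y => by
        obtain ⟨x, rfl⟩ := hsurj y
        obtain ⟨k, hk⟩ := hqel x
        exact ⟨k, by rw [← map_commutatorElement, ← map_pow, hk, map_one]⟩)
    have hmap : ∀ x ∈ commutator W, f x ∈ commutator (W ⧸ M) := fun x hx => by
      have h := mem_map_of_mem f hx
      rw [_root_.commutator_def, map_commutator] at h
      rw [_root_.commutator_def]
      exact commutator_mono le_top le_top h
    by_cases hrq : r = q
    · subst hrq
      intro x
      obtain ⟨k, hk⟩ := hQ ⟨f x, hmap x x.2⟩
      have hk' : ((x : W)) ^ r ^ k ∈ M := by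
        rw [← QuotientGroup.eq_one_iff]
        have := congrArg Subtype.val hk
        simpa [hf] using this
      obtain ⟨l, hl⟩ := hMr ⟨_, hk'⟩
      refine ⟨k + l, Subtype.ext ?_⟩
      have := congrArg Subtype.val hl
      push_cast at this ⊢
      rw [pow_add, pow_mul]
      exact this
    · -- `a` centralises `M`, so `M` is central
      have hcent : M ≤ center W := by
        have h1 : a ∈ centralizer (M : Set W) := by
          rw [mem_centralizer_iff]
          intro m hm
          have hmem : ⁅m, a⁆ ∈ M := by
            rw [commutatorElement_def, mul_assoc, mul_assoc]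
            exact M.mul_mem hm (by rw [← mul_assoc]; exact hMn.conj_mem _ (M.inv_mem hm) a)
          obtain ⟨k, hk⟩ := hqel m
          obtain ⟨l, hl⟩ := hMr ⟨_, hmem⟩
          have hl' : ⁅m, a⁆ ^ r ^ l = 1 := by simpa using congrArg Subtype.val hl
          have h2 : orderOf ⁅m, a⁆ ∣ Nat.gcd (q ^ k) (r ^ l) :=
            Nat.dvd_gcd (orderOf_dvd_of_pow_eq_one hk) (orderOf_dvd_of_pow_eq_one hl')
          rw [Nat.Coprime.pow k l ((Nat.coprime_primes hq hr).2 (Ne.symm hrq)), Nat.dvd_one,
            orderOf_eq_one_iff] at h2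
          exact commutatorElement_eq_one_iff_mul_comm.1 h2
        haveI : (centralizer (M : Set W)).Normal := inferInstance
        have h2 : (⊤ : Subgroup W) ≤ centralizer (M : Set W) :=
          hgen ▸ normalClosure_le_normal (Set.singleton_subset_iff.2 h1)
        intro m hm
        rw [mem_center_iff]
        intro g
        exact ((mem_centralizer_iff.1 (h2 (mem_top g))) m hm).symm
      -- the derived subgroup is nilpotent
      let g : commutator W →* commutator (W ⧸ M) :=
        (f.comp (commutator W).subtype).codRestrict _ (fun x => hmap x x.2)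
      haveI : Group.IsNilpotent (commutator (W ⧸ M)) := hQ.isNilpotent
      haveI : Group.IsNilpotent (commutator W) :=
        _root_.Subgroup.isNilpotent_of_ker_le_center g (fun x hx => by
          rw [mem_center_iff]
          intro y
          apply Subtype.ext
          have hxM : (x : W) ∈ M := (QuotientGroup.eq_one_iff (x : W)).1 (congrArg Subtype.val hx)
          exact mem_center_iff.1 (hcent hxM) y)
      obtain ⟨P⟩ : Nonempty (Sylow q (commutator W)) := inferInstance
      have hnil := (Group.isNilpotent_of_finite_tfae (G := commutator W)).out 0 3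
      haveI : (P : Subgroup (commutator W)).Normal := hnil.1 ‹_› q inferInstance P
      haveI : (P : Subgroup (commutator W)).Characteristic := P.characteristic_of_normal ‹_›
      set P' := (P : Subgroup (commutator W)).map (commutator W).subtype with hP'
      haveI : P'.Normal := inferInstance
      have hP'q : IsPGroup q P' := P.isPGroup'.map _
      have hqP : ∀ x : commutator W, (∃ k, x ^ q ^ k = 1) → x ∈ (P : Subgroup (commutator W)) := by
        rintro x ⟨k, hk⟩
        have hz : IsPGroup q (zpowers x) := by
          rw [IsPGroup.iff_card]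
          obtain ⟨j, -, hj⟩ := (Nat.dvd_prime_pow hq).1 (orderOf_dvd_of_pow_eq_one hk)
          exact ⟨j, by rw [Nat.card_zpowers, hj]⟩
        obtain ⟨Q, hQle⟩ := hz.exists_le_sylow
        haveI := P.unique_of_normal ‹_›
        rw [Subsingleton.elim Q P] at hQle
        exact hQle (mem_zpowers x)
      have hcomm : ∀ x : W, ⁅x, a⁆ ∈ P' := fun x => by
        have hx : ⁅x, a⁆ ∈ commutator W := by
          exact commutator_mem_commutator (mem_top _) (mem_top _)
        obtain ⟨k, hk⟩ := hqel x
        exact ⟨⟨_, hx⟩, hqP _ ⟨k, Subtype.ext (by simpa using hk)⟩, rfl⟩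
      have hle : commutator W ≤ P' := by
        set g' := QuotientGroup.mk' P' with hg'
        have hc : g' a ∈ center (W ⧸ P') := by
          rw [mem_center_iff]
          intro y
          obtain ⟨x, rfl⟩ := QuotientGroup.mk'_surjective P' y
          have := (QuotientGroup.eq_one_iff _).2 (hcomm x)
          rw [← commutatorElement_eq_one_iff_mul_comm, ← map_commutatorElement]
          exact this
        have htop : (⊤ : Subgroup W) ≤ (center (W ⧸ P')).comap g' :=
          hgen ▸ normalClosure_le_normal (Set.singleton_subset_iff.2 hc)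
        rw [_root_.commutator_def, commutator_le]
        intro x _ y _
        rw [← QuotientGroup.eq_one_iff]
        show g' ⁅x, y⁆ = 1
        rw [map_commutatorElement, commutatorElement_eq_one_iff_mul_comm]
        exact ((mem_center_iff.1 (htop (mem_top x))) (g' y)).symm
      exact hP'q.to_le hle

/-- If a solvable group is the normal closure of `a`, and every `⁅x, a⁆` is a `q`-element, then its
derived subgroup is a `q`-group. -/
theorem commutator_isPGroup {W : Type u} [Group W] [Finite W] [Group.IsSolvable W] {p q : ℕ}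
    (hq : q.Prime) {a : W} (hap : a ^ p = 1) (hgen : normalClosure {a} = (⊤ : Subgroup W))
    (hqel : ∀ x : W, ∃ k : ℕ, ⁅x, a⁆ ^ q ^ k = 1) : IsPGroup q (commutator W) :=
  commutator_isPGroup_aux hq _ W a rfl hap hgen hqel

/-! ### Fixed points of automorphisms of `q`-groups -/

section Fixed

variable {R : Type u} [Group R]

/-- `r⁻¹ α r`. -/
def dFun (α : R ≃* R) (r : R) : R := r⁻¹ * α r

theorem iterate_of_apply_eq_mul (α : R ≃* R) {y c : R} (h : α y = y * c) (hc : α c = c) :
    ∀ n : ℕ, (α : R → R)^[n] y = y * c ^ n
  | 0 => by simp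
  | n + 1 => by
    rw [Function.iterate_succ_apply', iterate_of_apply_eq_mul α h hc n, map_mul, h, map_pow, hc,
      mul_assoc, ← pow_succ']

theorem eq_one_of_pow_coprime [Finite R] {p q : ℕ} (hq : IsPGroup q R) (hpq : p.Coprime q) {c : R}
    (hc : c ^ p = 1) : c = 1 := by
  obtain ⟨k, hk⟩ := hq c
  have h : orderOf c ∣ Nat.gcd p (q ^ k) :=
    Nat.dvd_gcd (orderOf_dvd_of_pow_eq_one hc) (orderOf_dvd_of_pow_eq_one hk)
  rw [Nat.Coprime.pow_right k hpq, Nat.dvd_one, orderOf_eq_one_iff] at h
  exact h

/-- A fixed element of the form `y⁻¹ α y` is trivial. -/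
theorem dFun_eq_one_of_fixed [Finite R] {p q : ℕ} (hq : IsPGroup q R) (hpq : p.Coprime q)
    (α : R ≃* R) (hα : ∀ x, (α : R → R)^[p] x = x) {y : R} (hfix : α (dFun α y) = dFun α y) :
    dFun α y = 1 := by
  refine eq_one_of_pow_coprime hq hpq ?_
  have h := iterate_of_apply_eq_mul α (y := y) (c := dFun α y) (by simp [dFun]) hfix p
  rw [hα] at h
  exact mul_left_cancel (h.symm.trans (mul_one y).symm)

theorem closure_range_dFun_map {S : Type u} [Group S] (α : R ≃* R) (β : S ≃* S) (f : R →* S)
    (hf : Function.Surjective f) (hcomm : ∀ x, β (f x) = f (α x))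
    (hgen : closure (Set.range (dFun α)) = ⊤) : closure (Set.range (dFun β)) = ⊤ := by
  have h := congrArg (Subgroup.map f) hgen
  rw [MonoidHom.map_closure, ← MonoidHom.range_eq_map, MonoidHom.range_eq_top.2 hf] at h
  refine eq_top_iff.2 (h.symm.trans_le (closure_mono ?_))
  rintro _ ⟨_, ⟨x, rfl⟩, rfl⟩
  exact ⟨f x, by simp [dFun, hcomm]⟩

theorem fixed_eq_one_aux {p q : ℕ} (hq : q.Prime) (hpq : p.Coprime q) (hp : Odd p) (n : ℕ) :
    ∀ (R : Type u) [Group R] [Finite R] (α : R ≃* R), Nat.card R = n → IsPGroup q R →
      (∀ x, (α : R → R)^[p] x = x) → closure (Set.range (dFun α)) = ⊤ →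
      (∀ r, Commute (dFun α r) (α (dFun α r))) → ∀ x, α x = x → x = 1 := by
  induction n using Nat.strong_induction_on with
  | _ n ih =>
    intro R _ _ α hn hR hα hgen hab x hx
    haveI := Fact.mk hq
    -- passing to the quotient by a nontrivial invariant normal subgroup
    have step : ∀ M : Subgroup R, M.Normal → M ≠ ⊥ → M.map α.toMonoidHom = M →
        ∀ y, α y * y⁻¹ ∈ M → y ∈ M := by
      intro M hMn hM0 hMα y hy
      let β : R ⧸ M ≃* R ⧸ M := QuotientGroup.congr M M α hMα
      have hβ : ∀ z : R, β (QuotientGroup.mk' M z) = QuotientGroup.mk' M (α z) := fun z => rfl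
      have hlt : Nat.card (R ⧸ M) < n := by
        rw [← hn, Subgroup.card_eq_card_quotient_mul_card_subgroup M]
        exact lt_mul_of_one_lt_right Nat.card_pos ((Subgroup.one_lt_card_iff_ne_bot M).2 hM0)
      have hsemi : ∀ (k : ℕ) (z : R),
          (β : R ⧸ M → R ⧸ M)^[k] (QuotientGroup.mk' M z) = QuotientGroup.mk' M ((α : R → R)^[k] z) := by
        intro k
        induction k with
        | zero => intro z; rfl
        | succ k ihk => intro z; rw [Function.iterate_succ_apply, hβ, ihk, ← Function.iterate_succ_apply]
      have h := ih _ hlt (R ⧸ M) β rfl (hR.to_quotient M)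
        (fun w => by
          obtain ⟨z, rfl⟩ := QuotientGroup.mk'_surjective M w
          rw [hsemi, hα])
        (closure_range_dFun_map α β _ (QuotientGroup.mk'_surjective M) hβ hgen)
        (fun w => by
          obtain ⟨z, rfl⟩ := QuotientGroup.mk'_surjective M w
          have h := (hab z).map (QuotientGroup.mk' M)
          have e : dFun β (QuotientGroup.mk' M z) = QuotientGroup.mk' M (dFun α z) := by
            simp only [dFun, hβ, map_mul, map_inv]
          rw [e, hβ]
          exact h)
        (QuotientGroup.mk' M y) (by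
          rw [hβ]
          refine (QuotientGroup.eq_iff_div_mem).2 ?_
          rwa [div_eq_mul_inv])
      exact (QuotientGroup.eq_one_iff y).1 h
    by_cases hcom : ∀ a b : R, Commute a b
    · -- abelian: `dFun α` is an endomorphism, hence surjective
      let d : R →* R :=
        { toFun := dFun α
          map_one' := by simp [dFun]
          map_mul' := fun a b => by
            simp only [dFun, map_mul, mul_inv_rev]
            rw [(hcom b⁻¹ a⁻¹).eq, mul_assoc, mul_assoc, ← mul_assoc b⁻¹, (hcom b⁻¹ (α a)).eq]
            group }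
      have hsurj : ∀ y, ∃ r, dFun α r = y := fun y => by
        have h1 : closure (Set.range (dFun α)) ≤ d.range := (closure_le _).2 fun _ h => h
        exact h1 (hgen ▸ mem_top y)
      obtain ⟨r, rfl⟩ := hsurj x
      exact dFun_eq_one_of_fixed hR hpq α hα hx
    haveI : Nontrivial R := by
      by_contra h
      rw [not_nontrivial_iff_subsingleton] at h
      exact hcom fun a b => Subsingleton.elim _ _
    haveI : Group.IsNilpotent R := hR.isNilpotent
    have hZα : (center R).map α.toMonoidHom = center R :=
      Subgroup.characteristic_iff_map_eq.1 inferInstance α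
    set W : Subgroup R := commutator R ⊓ center R with hW
    have hWα : ∀ w ∈ W, α w ∈ W := fun w hw => by
      refine ⟨?_, ?_⟩
      · have := mem_map_of_mem α.toMonoidHom hw.1
        rwa [Subgroup.characteristic_iff_map_eq.1 inferInstance α] at this
      · exact hZα ▸ mem_map_of_mem α.toMonoidHom hw.2
    by_cases hWfix : ∃ w ∈ W, α w ≠ w
    · obtain ⟨w, hwW, hwne⟩ := hWfix
      have hWc : ∀ a ∈ W, ∀ b : R, Commute b a := fun a ha b => mem_center_iff.1 ha.2 b
      let d : W →* R :=
        { toFun := fun a => dFun α a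
          map_one' := by simp [dFun]
          map_mul' := fun a b => by
            simp only [dFun, Subgroup.coe_mul, map_mul, mul_inv_rev]
            rw [mul_assoc, ← mul_assoc (a : R)⁻¹, ← mul_assoc,
              (hWc _ (W.mul_mem (W.inv_mem a.2) (hWα a a.2)) (b : R)⁻¹).eq, mul_assoc] }
      have hMc : ∀ y ∈ d.range, y ∈ W := by
        rintro _ ⟨a, rfl⟩
        exact W.mul_mem (W.inv_mem a.2) (hWα a a.2)
      have hMn : d.range.Normal := ⟨fun y hy g => by
        rwa [(hWc y (hMc y hy) g).eq, mul_inv_cancel_right]⟩
      have hM0 : d.range ≠ ⊥ := fun h => hwne (by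
        have h1 : d ⟨w, hwW⟩ ∈ d.range := ⟨_, rfl⟩
        rw [h, mem_bot] at h1
        exact (inv_mul_eq_one.1 h1).symm)
      have hMα : d.range.map α.toMonoidHom = d.range := by
        refine Subgroup.eq_of_le_of_card_ge ?_ (le_of_eq ?_)
        · rintro _ ⟨_, ⟨a, rfl⟩, rfl⟩
          exact ⟨⟨α a, hWα a a.2⟩, by simp [d, dFun]⟩
        · exact (Subgroup.card_map_of_injective α.injective).symm
      obtain ⟨a, rfl⟩ := step _ hMn hM0 hMα x (by simp [hx])
      exact dFun_eq_one_of_fixed hR hpq α hα hx
    push Not at hWfix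
    exfalso
    -- fixed points modulo the centre
    have hZ0 : center R ≠ ⊥ := Group.IsNilpotent.center_ne_bot R
    have hfixZ : ∀ y, α y * y⁻¹ ∈ center R → y ∈ center R := step _ inferInstance hZ0 hZα
    set f := QuotientGroup.mk' (center R) with hfdef
    let β : R ⧸ center R ≃* R ⧸ center R := QuotientGroup.congr _ _ α hZα
    have hβ : ∀ z : R, β (f z) = f (α z) := fun z => rfl
    have hfixβ : ∀ w, β w = w → w = 1 := fun w hw => by
      obtain ⟨z, rfl⟩ := QuotientGroup.mk'_surjective (center R) w
      refine (QuotientGroup.eq_one_iff z).2 (hfixZ z ?_)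
      rw [← div_eq_mul_inv]
      exact QuotientGroup.eq_iff_div_mem.1 hw
    have hβp : ∀ w, (β : _ → _)^[p] w = w := fun w => by
      obtain ⟨z, rfl⟩ := QuotientGroup.mk'_surjective (center R) w
      have : Function.Semiconj f (α : R → R) (β : _ → _) := fun z => (hβ z).symm
      rw [← (this.iterate_right p).eq z, hα]
    -- the endomorphism `v ↦ (β⁻¹ dv)⁻¹ β dv` of the centre of the quotient
    set C := center (R ⧸ center R) with hC
    have hCβ : ∀ v ∈ C, β v ∈ C := fun v hv => by
      have := mem_map_of_mem β.toMonoidHom hv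
      rwa [hC, Subgroup.characteristic_iff_map_eq.1 inferInstance β] at this
    have hCβ' : ∀ v ∈ C, β.symm v ∈ C := fun v hv => by
      have := mem_map_of_mem β.symm.toMonoidHom hv
      rwa [hC, Subgroup.characteristic_iff_map_eq.1 inferInstance β.symm] at this
    have hCd : ∀ v ∈ C, dFun β v ∈ C := fun v hv => C.mul_mem (C.inv_mem hv) (hCβ v hv)
    let ψ : C → C := fun v => ⟨(β.symm (dFun β v))⁻¹ * β (dFun β v),
      C.mul_mem (C.inv_mem (hCβ' _ (hCd v v.2))) (hCβ _ (hCd v v.2))⟩
    have hψinj : Function.Injective ψ := by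
      intro v w h
      have hcc : ∀ a ∈ C, ∀ b : R ⧸ center R, Commute b a := fun a ha b => mem_center_iff.1 ha b
      have hmul : ∀ a ∈ C, ∀ b ∈ C, dFun β (a * b) = dFun β a * dFun β b := by
        intro a ha b hb
        simp only [dFun, map_mul, mul_inv_rev]
        rw [mul_assoc, ← mul_assoc a⁻¹, ← mul_assoc, (hcc _ (C.mul_mem (C.inv_mem ha) (hCβ a ha)) b⁻¹).eq,
          mul_assoc]
      set u := (v : R ⧸ center R) * (w : R ⧸ center R)⁻¹ with hu
      have huC : u ∈ C := C.mul_mem v.2 (C.inv_mem w.2)
      have hv : (v : R ⧸ center R) = u * w := by rw [hu, inv_mul_cancel_right]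
      have h' : (β.symm (dFun β v))⁻¹ * β (dFun β v) = (β.symm (dFun β w))⁻¹ * β (dFun β w) :=
        congrArg Subtype.val h
      rw [hv, hmul u huC w w.2, map_mul, map_mul, mul_inv_rev] at h'
      set U := dFun β u
      set X := (β.symm U)⁻¹ * β U with hX
      set Y := (β.symm (dFun β w))⁻¹
      have hXC : X ∈ C := C.mul_mem (C.inv_mem (hCβ' _ (hCd u huC))) (hCβ _ (hCd u huC))
      rw [show Y * (β.symm U)⁻¹ * (β U * β (dFun β w)) = Y * X * β (dFun β w) by
        rw [hX]; group, (hcc X hXC Y).eq, mul_assoc] at h'
      have hX1 : X = 1 := by rwa [mul_eq_right] at h'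
      -- `β² U = U`, hence `β U = U`
      have h2 : (β : _ → _)^[2] U = U := by
        have h3 : β.symm U = β U := inv_mul_eq_one.1 hX1
        show β (β U) = U
        rw [← h3, MulEquiv.apply_symm_apply]
      have h4 : β U = U := by
        obtain ⟨j, hj⟩ := hp
        have h5 := hβp U
        have h6 : (β : _ → _) (((β : _ → _)^[2])^[j] U) = U := by
          rw [← Function.iterate_mul, ← Function.iterate_succ_apply' (⇑β) (2 * j) U]
          rw [hj] at h5
          exact h5
        rwa [Function.iterate_fixed h2 j] at h6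
      have hU : dFun β u = 1 := hfixβ _ h4
      have hu1 : u = 1 := hfixβ u (inv_mul_eq_one.1 hU).symm
      exact Subtype.ext (mul_inv_eq_one.1 hu1)
    have hψsurj : Function.Surjective ψ := Finite.injective_iff_surjective.1 hψinj
    -- the second centre is central
    have hle : C ≤ ⊥ := by
      intro v hv
      obtain ⟨⟨w, hw⟩, hwv⟩ := hψsurj ⟨v, hv⟩
      obtain ⟨u, rfl⟩ := QuotientGroup.mk'_surjective (center R) w
      have hu : ∀ r, ⁅u, r⁆ ∈ W := fun r => by
        refine ⟨?_, ?_⟩
        · exact commutator_mem_commutator (mem_top _) (mem_top _)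
        · refine (QuotientGroup.eq_one_iff _).1 ?_
          show f ⁅u, r⁆ = 1
          rw [map_commutatorElement, commutatorElement_eq_one_iff_mul_comm]
          exact ((mem_center_iff.1 hw) (f r)).symm
      -- elements whose commutators are central
      let Z2 : Subgroup R := (center (R ⧸ center R)).comap f
      have hW2 : ∀ a ∈ Z2, ∀ r, ⁅a, r⁆ ∈ W := fun a ha r => by
        refine ⟨?_, ?_⟩
        · exact commutator_mem_commutator (mem_top _) (mem_top _)
        · refine (QuotientGroup.eq_one_iff _).1 ?_
          show f ⁅a, r⁆ = 1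
          rw [map_commutatorElement, commutatorElement_eq_one_iff_mul_comm]
          exact ((mem_center_iff.1 ha) (f r)).symm
      have hU : dFun α u ∈ Z2 := by
        show f (dFun α u) ∈ C
        rw [show f (dFun α u) = dFun β (f u) by simp [dFun, hβ]]
        exact hCd _ hw
      set U := dFun α u
      set v' := (α.symm U)⁻¹ * α U with hv'
      have hfv : f v' = v := by
        have h1 : f (α.symm U) = β.symm (f U) := by
          rw [MulEquiv.eq_symm_apply, hβ, MulEquiv.apply_symm_apply]
        have h2 := congrArg Subtype.val hwv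
        simp only [ψ] at h2
        rw [← h2, hv', map_mul, map_inv, h1, ← hβ, show f U = dFun β (f u) by simp [U, dFun, hβ]]
      have hU' : α U ∈ Z2 := by show f (α U) ∈ C; rw [← hβ]; exact hCβ _ hU
      have hU'' : α.symm U ∈ Z2 := by
        show f (α.symm U) ∈ C
        rw [show f (α.symm U) = β.symm (f U) by rw [MulEquiv.eq_symm_apply, hβ, MulEquiv.apply_symm_apply]]
        exact hCβ' _ hU
      have key : ∀ r, Commute v' (dFun α r) := by
        intro r
        set A := dFun α r
        have hz : ∃ z ∈ center R, dFun α (r * u) = z * (A * U) := by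
          refine ⟨⁅u⁻¹, A⁆, (hW2 _ (Z2.inv_mem (show u ∈ Z2 from hw)) A).2, ?_⟩
          simp only [A, U, dFun, commutatorElement_def, map_mul]
          group
        obtain ⟨z, hz, hd⟩ := hz
        have h1 := hab (r * u)
        rw [hd, map_mul] at h1
        have hzc : ∀ b, Commute z b := fun b => (mem_center_iff.1 hz b).symm
        have hzc' : ∀ b, Commute (α z) b := fun b => by
          have : α z ∈ center R := hZα ▸ mem_map_of_mem α.toMonoidHom hz
          exact (mem_center_iff.1 this b).symm
        have h2 : Commute (A * U) (α A * α U) := by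
          rw [← map_mul]
          have h3 := ((hzc (α z * α (A * U))).inv_left).mul_left h1
          rw [inv_mul_cancel_left] at h3
          have h4 := ((hzc' (A * U)).inv_left.symm).mul_right h3
          rwa [inv_mul_cancel_left] at h4
        have hA := hab r
        have hUU := hab u
        have e1 : ⁅U, α A⁆ = ⁅α U, A⁆ := by
          have c1 := (hW2 U hU (α A)).2
          have c2 := (hW2 (α U) hU' A).2
          have l1 : A * U * (α A * α U) = ⁅U, α A⁆ * (A * α A * (U * α U)) := by
            rw [show A * U * (α A * α U) = A * ⁅U, α A⁆ * α A * (U * α U) by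
              simp only [commutatorElement_def]; group, (mem_center_iff.1 c1 A)]
            group
          have l2 : α A * α U * (A * U) = ⁅α U, A⁆ * (α A * A * (α U * U)) := by
            rw [show α A * α U * (A * U) = α A * ⁅α U, A⁆ * A * (α U * U) by
              simp only [commutatorElement_def]; group, (mem_center_iff.1 c2 (α A))]
            group
          have h3 := h2.eq
          rw [l1, l2, hA.eq, hUU.eq] at h3
          exact mul_right_cancel h3
        have e2 : ⁅α.symm U, A⁆ = ⁅U, α A⁆ := by
          have h3 := hWfix _ (hW2 (α.symm U) hU'' A)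
          rw [commutatorElement_def, map_mul, map_mul, map_mul, map_inv, map_inv, MulEquiv.apply_symm_apply] at h3
          rw [commutatorElement_def, commutatorElement_def]
          exact h3.symm
        have e3 : ⁅α.symm U, A⁆ = ⁅α U, A⁆ := e2.trans e1
        have c3 := (hW2 (α.symm U) hU'' A).2
        have e4 : α U * A * (α U)⁻¹ = α.symm U * A * (α.symm U)⁻¹ := by
          rw [commutatorElement_def, commutatorElement_def, mul_left_inj] at e3
          exact e3.symm
        show (α.symm U)⁻¹ * α U * A = A * ((α.symm U)⁻¹ * α U)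
        rw [← mul_inv_eq_iff_eq_mul, mul_inv_rev, inv_inv,
          show (α.symm U)⁻¹ * α U * A * ((α U)⁻¹ * α.symm U) =
            (α.symm U)⁻¹ * (α U * A * (α U)⁻¹) * α.symm U by group, e4]
        group
      have hc : v' ∈ center R := by
        rw [mem_center_iff]
        intro b
        have h1 : closure (Set.range (dFun α)) ≤ centralizer {v'} := by
          rw [closure_le]
          rintro _ ⟨r, rfl⟩
          exact mem_centralizer_singleton_iff.2 (key r).symm.eq
        exact mem_centralizer_singleton_iff.1 (h1 (hgen ▸ mem_top b))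
      rw [mem_bot, ← hfv]
      exact (QuotientGroup.eq_one_iff v').2 hc
    haveI : Nontrivial (R ⧸ center R) := by
      rw [QuotientGroup.nontrivial_iff]
      intro h
      exact hcom fun a b => mem_center_iff.1 (h ▸ mem_top b) a
    haveI : Group.IsNilpotent (R ⧸ center R) := (hR.to_quotient _).isNilpotent
    exact Group.IsNilpotent.center_ne_bot _ (le_bot_iff.1 hle)

/-- An automorphism of odd order prime to `q` of a `q`-group whose `r⁻¹ α r` generate and commute
with their images is fixed point free. -/
theorem fixed_eq_one [Finite R] {p q : ℕ} (hq : q.Prime) (hpq : p.Coprime q) (hp : Odd p)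
    (α : R ≃* R) (hR : IsPGroup q R) (hα : ∀ x, (α : R → R)^[p] x = x)
    (hgen : closure (Set.range (dFun α)) = ⊤) (hab : ∀ r, Commute (dFun α r) (α (dFun α r))) {x : R}
    (hx : α x = x) : x = 1 :=
  fixed_eq_one_aux hq hpq hp _ R α rfl hR hα hgen hab x hx

end Fixed

/-! ### A commutator bound -/

theorem commutator_zpowers_sup_le {G : Type u} [Group G] {N : Subgroup G} {a : G}
    (ha : a ∈ normalizer (N : Set G)) : ⁅zpowers a ⊔ N, zpowers a ⊔ N⁆ ≤ N := by
  set W := normalizer (N : Set G) with hW
  have hNW : N ≤ W := le_normalizer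
  have hle : zpowers a ⊔ N ≤ W := sup_le (zpowers_le.2 ha) hNW
  haveI : (N.subgroupOf W).Normal := normal_in_normalizer
  let f : (W : Subgroup G) →* (W : Subgroup G) ⧸ N.subgroupOf W := QuotientGroup.mk' (N.subgroupOf W)
  rw [commutator_le]
  intro x hx y hy
  have hx' : f (⟨x, hle hx⟩ : W) ∈ zpowers (f (⟨a, ha⟩ : W)) ∧
      f (⟨y, hle hy⟩ : W) ∈ zpowers (f (⟨a, ha⟩ : W)) := by
    have h : ∀ (z : G) (hz : z ∈ zpowers a ⊔ N),
        f (⟨z, hle hz⟩ : W) ∈ zpowers (f (⟨a, ha⟩ : W)) := by
      intro z hz
      show f (⟨z, hle hz⟩ : W) ∈ zpowers (f (⟨a, ha⟩ : W))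
      have h1 : (zpowers a ⊔ N) ≤ ((zpowers (f (⟨a, ha⟩ : W))).comap f).map W.subtype := by
        refine sup_le (zpowers_le.2 ⟨⟨a, ha⟩, mem_zpowers _, rfl⟩) fun n hn => ⟨⟨n, hNW hn⟩, ?_, rfl⟩
        show f (⟨n, hNW hn⟩ : W) ∈ zpowers (f (⟨a, ha⟩ : W))
        rw [show f (⟨n, hNW hn⟩ : W) = 1 from (QuotientGroup.eq_one_iff _).2 hn]
        exact one_mem _
      obtain ⟨w, hw, rfl⟩ := h1 hz
      exact hw
    exact ⟨h x hx, h y hy⟩
  obtain ⟨i, hi⟩ := mem_zpowers_iff.1 hx'.1
  obtain ⟨j, hj⟩ := mem_zpowers_iff.1 hx'.2
  have h3 : f ⁅(⟨x, hle hx⟩ : W), ⟨y, hle hy⟩⁆ = 1 := by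
    rw [map_commutatorElement, ← hi, ← hj, commutatorElement_eq_one_iff_mul_comm]
    exact Commute.zpow_zpow_self _ i j
  have h4 := mem_subgroupOf.1 ((QuotientGroup.eq_one_iff _).1 h3)
  simpa [commutatorElement_def] using h4

end Cfsg.Agent.FischerGen
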