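import Cfsg.Agent.Lib.FischerGen.Struct
import Cfsg.Agent.Lib.Transfer.Focal

/-!
# Involutions in a `Setup`

* `exists_conj_form`: the shape of `w * t` for an involution `t` normalising an odd group `W ∋ w`;
* `odd_card_D`, `le_cen_of_two`: a 2-element normalising a member centralises it;
* `exists_centre`: the centre on the line through `B` and its image under an involution;
* `mem_normalizer_gen`: an involution with all fixed points in `H` normalises `gen D H`.
-/

set_option autoImplicit false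
set_option linter.style.haveILetI false

open scoped commutatorElement

namespace Cfsg.Agent.FischerGen

open Subgroup

universe u

variable {G : Type u} [Group G]

/-- For an involution `t` normalising the odd group `W ∋ w`, some `W`-conjugate of `w * t` is `c * t`
with `c ∈ W` commuting with `t`. -/
theorem exists_conj_form [Finite G] {W : Subgroup G} (hW : Odd (Nat.card W)) {t w : G}
    (ht : t * t = 1) (htW : t ∈ normalizer (W : Set G)) (hw : w ∈ W) :
    ∃ h ∈ W, ∃ c ∈ W, Commute c t ∧ h⁻¹ * (w * t) * h = c * t := by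
  have htinv : t⁻¹ = t := inv_eq_of_mul_eq_one_right ht
  have htWt : ∀ x ∈ W, t * x * t ∈ W := fun x hx => by
    have := (mem_normalizer_iff.1 htW x).1 hx
    rwa [htinv] at this
  set y := w * t with hy
  have hy2 : y * y ∈ W := by
    rw [show y * y = w * (t * w * t) by rw [hy]; group]
    exact W.mul_mem hw (htWt w hw)
  set z := y * y with hz
  obtain ⟨j, hj⟩ : Odd (orderOf z) := hW.of_dvd_nat (Subgroup.orderOf_dvd_natCard W hy2)
  set e := z ^ j * y with he
  have hzy : Commute z y := (Commute.refl y).mul_left (Commute.refl y)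
  have hee : e * e = 1 := by
    rw [he, show z ^ j * y * (z ^ j * y) = z ^ j * (y * z ^ j) * y by group, ← (hzy.pow_left j).eq,
      show z ^ j * (z ^ j * y) * y = z ^ j * z ^ j * (y * y) by group, ← hz, ← pow_add, ← pow_succ,
      show j + j + 1 = orderOf z by omega, pow_orderOf_eq_one]
  set v := z ^ j * w with hv
  have hvW : v ∈ W := W.mul_mem (pow_mem hy2 j) hw
  have hev : e = v * t := by rw [he, hv, hy, mul_assoc]
  have htv : t * v * t = v⁻¹ := by
    refine eq_inv_of_mul_eq_one_right ?_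
    rw [show v * (t * v * t) = (v * t) * (v * t) by group, ← hev, hee]
  obtain ⟨i, hi⟩ : Odd (orderOf v) := hW.of_dvd_nat (Subgroup.orderOf_dvd_natCard W hvW)
  set h := v ^ (i + 1) with hh
  have hhh : h * h = v := by
    rw [hh, ← pow_add, show i + 1 + (i + 1) = orderOf v + 1 by omega, pow_succ, pow_orderOf_eq_one,
      one_mul]
  have hth : t * h⁻¹ * t = h := by
    have h1 : ∀ n : ℕ, t * v ^ n * t = (v ^ n)⁻¹ := by
      intro n
      induction n with
      | zero => simpa using ht
      | succ n ih =>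
        rw [pow_succ, show t * (v ^ n * v) * t = (t * v ^ n * t) * (t * v * t) by
          rw [show t * v ^ n * t * (t * v * t) = t * v ^ n * (t * t) * v * t by group, ht]; group,
          ih, htv, ← mul_inv_rev, (Commute.refl v).pow_right n |>.eq]
    have h2 := h1 (i + 1)
    rw [← hh] at h2
    calc t * h⁻¹ * t = t * (t * h * t) * t := by rw [h2]
      _ = (t * t) * h * (t * t) := by group
      _ = h := by rw [ht, one_mul, mul_one]
  have het : e = h * t * h⁻¹ := by
    rw [hev, ← hhh]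
    calc h * h * t = h * (t * h⁻¹ * t) * t := by rw [hth]
      _ = h * t * h⁻¹ * (t * t) := by group
      _ = h * t * h⁻¹ := by rw [ht, mul_one]
  have hye : y = (z ^ j)⁻¹ * e := by rw [he, inv_mul_cancel_left]
  have hce : Commute (z ^ j)⁻¹ e :=
    ((Commute.refl _).inv_left).mul_right ((hzy.pow_left j).inv_left)
  refine ⟨h, pow_mem hvW _, h⁻¹ * (z ^ j)⁻¹ * h,
    W.mul_mem (W.mul_mem (W.inv_mem (pow_mem hvW _)) (W.inv_mem (pow_mem hy2 j))) (pow_mem hvW _), ?_, ?_⟩
  · have := hce.map (MulAut.conj h⁻¹).toMonoidHom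
    rw [het] at this
    simpa [mul_assoc] using this
  · rw [hye, het]; group

namespace Setup

variable {p q : ℕ} {D : Set (Subgroup G)} [Finite G]

/-- The number of members in a pair group is odd. -/
theorem odd_points (h : Setup p q D) {A B : Subgroup G} (hA : A ∈ D) (hB : B ∈ D) (hne : A ≠ B) :
    Odd ({E : Subgroup G | E ∈ D ∧ E ≤ A ⊔ B}.ncard) := by
  set F := A ⊔ B with hF
  let N : Subgroup F := (normalizer (A : Set G)).subgroupOf F
  let f : F → {E : Subgroup G | E ∈ D ∧ E ≤ F} := fun x =>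
    ⟨cj x A, h.conj_mem A hA x, cj_le_of_mem x.2 le_sup_left⟩
  let g : F ⧸ N → {E : Subgroup G | E ∈ D ∧ E ≤ F} := Quotient.lift f fun x y hxy => by
    have hm : (x : G)⁻¹ * y ∈ normalizer (A : Set G) := mem_subgroupOf.1 (QuotientGroup.leftRel_apply.1 hxy)
    refine Subtype.ext ?_
    show cj (x : G) A = cj (y : G) A
    conv_rhs => rw [show (y : G) = x * ((x : G)⁻¹ * y) by group, ← cj_mul, cj_eq_of_mem_normalizer hm]
  have hg : Function.Bijective g := by
    refine ⟨?_, ?_⟩
    · rintro ⟨x⟩ ⟨y⟩ e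
      have e' : cj (x : G) A = cj (y : G) A := congrArg Subtype.val e
      refine Quotient.sound' (QuotientGroup.leftRel_apply.2 (mem_subgroupOf.2 ?_))
      show ((x⁻¹ * y : F) : G) ∈ normalizer (A : Set G)
      rw [mem_normalizer_iff_cj, Subgroup.coe_mul, Subgroup.coe_inv, ← cj_mul, ← e', cj_inv_cj]
    · rintro ⟨E, hE, hEF⟩
      by_cases hAE : A = E
      · exact ⟨QuotientGroup.mk 1, Subtype.ext (by show cj (1 : G) A = E; rw [cj_one, hAE])⟩
      · obtain ⟨x, hx, rfl⟩ := h.exists_conj hA hE hAE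
        exact ⟨QuotientGroup.mk ⟨x, sup_le le_sup_left hEF hx⟩, rfl⟩
  rw [← Nat.card_coe_set_eq, ← Nat.card_eq_of_bijective g hg]
  exact (h.odd A hA B hB hne).of_dvd_nat (Subgroup.card_quotient_dvd_card N)

/-- The number of members is odd. -/
theorem odd_card_D (h : Setup p q D) : Odd D.ncard := by
  classical
  obtain ⟨A, hA, -, -, -⟩ := h.nontriv
  set S := D.toFinite.toFinset.erase A with hS
  have hmem : ∀ B, B ∈ S ↔ B ≠ A ∧ B ∈ D := fun B => by simp [hS]
  have heven : Even S.card := by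
    rw [Finset.card_eq_sum_card_image (fun B => A ⊔ B) S]
    refine Finset.even_sum _ fun F hF => ?_
    obtain ⟨B, hBS, rfl⟩ := Finset.mem_image.1 hF
    obtain ⟨hBA, hB⟩ := (hmem B).1 hBS
    have hset : ((S.filter fun C => A ⊔ C = A ⊔ B) : Set (Subgroup G)) =
        {E : Subgroup G | E ∈ D ∧ E ≤ A ⊔ B} \ {A} := by
      ext C
      simp only [Finset.coe_filter, hmem, Set.mem_setOf_eq, Set.mem_sdiff, Set.mem_singleton_iff]
      constructor
      · rintro ⟨⟨h1, h2⟩, h3⟩
        exact ⟨⟨h2, le_sup_right.trans h3.le⟩, h1⟩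
      · rintro ⟨⟨h1, h2⟩, h3⟩
        exact ⟨⟨h3, h1⟩, h.pair_eq hA hB (Ne.symm hBA) hA h1 (Ne.symm h3) le_sup_left h2⟩
    have hA' : A ∈ {E : Subgroup G | E ∈ D ∧ E ≤ A ⊔ B} := ⟨hA, le_sup_left⟩
    rw [← Set.ncard_coe_finset, hset, Set.ncard_sdiff_singleton_of_mem hA']
    obtain ⟨k, hk⟩ := h.odd_points hA hB (Ne.symm hBA)
    exact ⟨k, by omega⟩
  have hAmem : A ∈ D.toFinite.toFinset := by simpa using hA
  rw [Set.ncard_eq_toFinset_card D, ← Finset.card_erase_add_one hAmem]
  exact heven.add_one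

/-- A Sylow 2-subgroup normalises a member. -/
theorem exists_fixed (h : Setup p q D) {T : Subgroup G} (hT : IsPGroup 2 T) :
    ∃ A ∈ D, T ≤ normalizer (A : Set G) := by
  haveI : Fact (Nat.Prime 2) := ⟨Nat.prime_two⟩
  letI : MulAction T D :=
    { smul := fun x A => ⟨cj (x : G) A, h.conj_mem A A.2 x⟩
      one_smul := fun A => Subtype.ext (cj_one _)
      mul_smul := fun x y A => Subtype.ext (cj_mul (x : G) y _).symm }
  obtain ⟨A, hA⟩ := hT.nonempty_fixed_point_of_prime_not_dvd_card D (by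
    rw [Nat.card_coe_set_eq]; exact Nat.not_even_iff_odd.2 h.odd_card_D ∘ even_iff_two_dvd.2)
  refine ⟨A, A.2, fun x hx => mem_normalizer_iff_cj.2 (le_of_eq ?_)⟩
  exact congrArg Subtype.val (hA ⟨x, hx⟩)

/-- A 2-element normalising a member centralises it. -/
theorem le_cen_of_two (h : Setup p q D) {g : G} (hg : ∃ k, g ^ 2 ^ k = 1) {B : Subgroup G}
    (hB : B ∈ D) (hgB : cj g B = B) : B ≤ cen g := by
  haveI : Fact (Nat.Prime 2) := ⟨Nat.prime_two⟩
  haveI := Fact.mk h.prime
  have hgp : IsPGroup 2 (zpowers g) := by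
    obtain ⟨k, hk⟩ := hg
    obtain ⟨j, -, hj⟩ := (Nat.dvd_prime_pow Nat.prime_two).1 (orderOf_dvd_of_pow_eq_one hk)
    exact IsPGroup.of_card (n := j) (by rw [Nat.card_zpowers, hj])
  obtain ⟨T, hgT⟩ := hgp.exists_le_sylow
  obtain ⟨A, hA, hTA⟩ := h.exists_fixed T.isPGroup'
  obtain ⟨a, rfl, ha⟩ := h.exists_gen hA
  have hexp : ∀ x : G, x ∈ normalizer (zpowers a : Set G) → ∃ i : ℤ, x * a * x⁻¹ = a ^ i := fun x hx => by
    obtain ⟨i, hi⟩ := mem_zpowers_iff.1 ((mem_normalizer_iff.1 hx a).1 (mem_zpowers a))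
    exact ⟨i, hi.symm⟩
  -- the elements of `T` centralising `A`
  set T0 := (T : Subgroup G) ⊓ cen a with hT0
  have hfocal : (T : Subgroup G).focalSubgroup ≤ T0 := by
    rw [focalSubgroup_def, closure_le]
    rintro w ⟨hwT, x, hx, u, rfl⟩
    refine ⟨hwT, mem_cen.2 ?_⟩
    set y := u * x * u⁻¹ with hy
    have hyT : y ∈ (T : Subgroup G) := by
      have := (T : Subgroup G).inv_mem ((T : Subgroup G).mul_mem ((T : Subgroup G).inv_mem hx) hwT)
      rw [commutatorElement_def, show (x⁻¹ * (x * u * x⁻¹ * u⁻¹))⁻¹ = u * x * u⁻¹ by group] at this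
      exact this
    obtain ⟨i, hi⟩ := hexp x (hTA hx)
    obtain ⟨j, hj⟩ := hexp y (hTA hyT)
    have hij : a ^ i = a ^ j := by
      -- exponents agree at the conjugate member
      have hb : ∀ b ∈ cj u (zpowers a), y * b * y⁻¹ = b ^ j := by
        intro b hb
        by_cases hfix : zpowers a = cj u (zpowers a)
        · rw [← hfix, mem_zpowers_iff] at hb
          obtain ⟨n, rfl⟩ := hb
          rw [← conj_zpow, hj, ← zpow_mul, ← zpow_mul, mul_comm]
        · refine h.pow_eq_of_normalizes hA (h.conj_mem _ hA u) hfix hj ?_ hb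
          rw [cj_mul, hy, show u * x * u⁻¹ * u = u * x by group, ← cj_mul,
            cj_eq_of_mem_normalizer (hTA hx)]
      have h1 := hb (u * a * u⁻¹) (conj_mem_cj (mem_zpowers a))
      rw [hy, show u * x * u⁻¹ * (u * a * u⁻¹) * (u * x * u⁻¹)⁻¹ = u * (x * a * x⁻¹) * u⁻¹ by group,
        hi, conj_zpow] at h1
      exact mul_left_cancel (mul_right_cancel h1)
    rw [commutatorElement_def, show x * u * x⁻¹ * u⁻¹ = x * y⁻¹ by rw [hy]; group]
    have h2 : y⁻¹ * a * y = x⁻¹ * a * x := by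
      have e1 : x * a * x⁻¹ = y * a * y⁻¹ := by rw [hi, hj, hij]
      -- apply both inverse automorphisms to `a`
      have e2 : ∀ n : ℤ, x * a ^ n * x⁻¹ = y * a ^ n * y⁻¹ := fun n => by
        rw [← conj_zpow, ← conj_zpow, e1]
      have hm : x⁻¹ * a * x ∈ zpowers a := by
        have := (mem_normalizer_iff''.1 (hTA hx) a).1 (mem_zpowers a)
        exact this
      obtain ⟨n, hn⟩ := mem_zpowers_iff.1 hm
      have e3 := e2 n
      rw [hn, show x * (x⁻¹ * a * x) * x⁻¹ = a by group] at e3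
      calc y⁻¹ * a * y = y⁻¹ * (y * (x⁻¹ * a * x) * y⁻¹) * y := by rw [← e3]
        _ = x⁻¹ * a * x := by group
    calc x * y⁻¹ * a = x * (y⁻¹ * a * y) * y⁻¹ := by group
      _ = x * (x⁻¹ * a * x) * y⁻¹ := by rw [h2]
      _ = a * (x * y⁻¹) := by group
  have hTG : (T : Subgroup G) ≤ commutator G := by
    intro x hx
    have hall : ∀ z : Abelianization G, z ^ p = 1 := by
      intro z
      obtain ⟨w, rfl⟩ := QuotientGroup.mk'_surjective (commutator G) z
      have h1 : sSup D ≤ (powMonoidHom p : Abelianization G →* Abelianization G).ker.comap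
          Abelianization.of := by
        refine sSup_le fun A hA w hw => ?_
        show Abelianization.of w ^ p = 1
        have hwp : w ^ p = 1 := by
          have := orderOf_dvd_iff_pow_eq_one.1 (h.card A hA ▸ Subgroup.orderOf_dvd_natCard A hw)
          exact this
        rw [← map_pow, hwp, map_one]
      rw [h.generates] at h1
      exact h1 (mem_top w)
    obtain ⟨k, hk⟩ := T.isPGroup' ⟨x, hx⟩
    have hk' : x ^ 2 ^ k = 1 := by simpa using congrArg Subtype.val hk
    have h2 : orderOf (Abelianization.of x) ∣ Nat.gcd p (2 ^ k) :=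
      Nat.dvd_gcd (orderOf_dvd_of_pow_eq_one (hall _))
        (orderOf_dvd_of_pow_eq_one (by rw [← map_pow, hk', map_one]))
    rw [Nat.Coprime.pow_right k ((Nat.coprime_primes h.prime Nat.prime_two).2 h.ne_two), Nat.dvd_one,
      orderOf_eq_one_iff] at h2
    rw [← Abelianization.ker_of G]
    exact h2
  have hgA : g ∈ cen a := by
    have hg' : g ∈ (T : Subgroup G) := hgT (mem_zpowers g)
    have := Transfer.focalSubgroup_eq_of_coprime (T : Subgroup G) (Transfer.coprime_index_relIndex_sylow T)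
    exact (hfocal (this.ge ⟨hTG hg', hg'⟩)).2
  have hga : g * a * g⁻¹ = a ^ (1 : ℤ) := by rw [zpow_one, mem_cen.1 hgA, mul_inv_cancel_right]
  intro b hb
  rw [mem_cen]
  by_cases hne : zpowers a = B
  · rw [← hne, mem_zpowers_iff] at hb
    obtain ⟨n, rfl⟩ := hb
    exact ((show Commute a g from (mem_cen.1 hgA).symm).zpow_left n).eq
  · have := h.pow_eq_of_normalizes hA hB hne hga hgB hb
    rw [zpow_one] at this
    exact (mul_inv_eq_iff_eq_mul.1 this).symm

theorem le_cen_of_invol (h : Setup p q D) {t : G} (ht : t * t = 1) {B : Subgroup G}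
    (hB : B ∈ D) (htB : cj t B = B) : B ≤ cen t :=
  h.le_cen_of_two ⟨1, by rw [pow_one, sq, ht]⟩ hB htB

theorem cj_eq_of_le_cen {t : G} {B : Subgroup G} (hB : B ≤ cen t) : cj t B = B :=
  cj_eq_of_commute fun x hx => (mem_cen.1 (hB hx)).symm

/-- An involution normalises the pair group of a member and its image. -/
theorem mem_normalizer_pair {t : G} (ht : t * t = 1) (B : Subgroup G) :
    t ∈ normalizer ((B ⊔ cj t B : Subgroup G) : Set G) := by
  rw [mem_normalizer_iff_cj, cj, Subgroup.map_sup, ← cj, ← cj, cj_mul, ht, cj_one, sup_comm]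

/-- The centre of the line through a moved member. -/
theorem exists_centre (h : Setup p q D) {t : G} (ht : t * t = 1) {B : Subgroup G} (hB : B ∈ D)
    (hne : B ≠ cj t B) : ∃ E ∈ D, E ≤ B ⊔ cj t B ∧ E ≤ cen t := by
  set F := B ⊔ cj t B with hF
  have hodd : Odd (Nat.card F) := h.odd _ hB _ (h.conj_mem B hB t) hne
  have htF : t ∈ normalizer (F : Set G) := mem_normalizer_pair ht B
  obtain ⟨f, hf, hfB⟩ := h.exists_conj hB (h.conj_mem B hB t) hne
  obtain ⟨k, hk, c, hc, hct, he⟩ := exists_conj_form hodd ht htF (F.inv_mem hf)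
  refine ⟨cj k⁻¹ B, h.conj_mem B hB _, cj_le_of_mem (F.inv_mem hk) le_sup_left,
    h.le_cen_of_invol ht (h.conj_mem B hB _) ?_⟩
  set E := cj k⁻¹ B with hE
  have hy : cj (f⁻¹ * t) B = B := by rw [← cj_mul, hfB, cj_inv_cj]
  have hct' : cj (c * t) E = E := by
    rw [← he, hE, cj_mul, show k⁻¹ * (f⁻¹ * t) * k * k⁻¹ = k⁻¹ * (f⁻¹ * t) by group, ← cj_mul, hy]
  have hpow : ∀ n : ℕ, cj ((c * t) ^ n) E = E := by
    intro n
    induction n with
    | zero => rw [pow_zero, cj_one]
    | succ n ih => rw [pow_succ, ← cj_mul, hct', ih]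
  obtain ⟨i, hi⟩ : Odd (orderOf c) := hodd.of_dvd_nat (Subgroup.orderOf_dvd_natCard F hc)
  have := hpow (2 * i + 1)
  rwa [hct.mul_pow, ← hi, pow_orderOf_eq_one, one_mul, hi, pow_succ, pow_mul, sq, ht, one_pow,
    one_mul] at this

/-- Two fixed members on a moved line are impossible. -/
theorem centre_unique (h : Setup p q D) {t : G} (ht : t * t = 1) {B E E' : Subgroup G} (hB : B ∈ D)
    (hne : B ≠ cj t B) (hE : E ∈ D) (hE' : E' ∈ D) (hle : E ≤ B ⊔ cj t B) (hle' : E' ≤ B ⊔ cj t B)
    (hEt : cj t E = E) (hEt' : cj t E' = E') : E = E' := by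
  by_contra hEE
  refine hne ?_
  have hF := h.pair_eq hB (h.conj_mem B hB t) hne hE hE' hEE hle hle'
  have hcen : B ⊔ cj t B ≤ cen t :=
    hF ▸ sup_le (h.le_cen_of_invol ht hE hEt) (h.le_cen_of_invol ht hE' hEt')
  exact (cj_eq_of_le_cen (le_sup_left.trans hcen)).symm

/-- An involution all whose fixed members lie below `H` normalises `gen D H`. -/
theorem mem_normalizer_gen (h : Setup p q D) {t : G} (ht : t * t = 1) {H : Subgroup G}
    (hfix : ∀ B ∈ D, B ≤ cen t → B ≤ H) : t ∈ normalizer (gen D H : Set G) := by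
  rw [mem_normalizer_iff_cj]
  refine map_le_iff_le_comap.2 (sSup_le fun C hC => map_le_iff_le_comap.1 (le_gen (h.conj_mem C hC.1 t) ?_))
  by_cases hne : C = cj t C
  · exact hne.symm.le.trans hC.2
  obtain ⟨E, hE, hEF, hEt⟩ := h.exists_centre ht hC.1 hne
  have hEC : C ≠ E := by
    rintro rfl
    exact hne (cj_eq_of_le_cen hEt).symm
  have := h.pair_eq hC.1 (h.conj_mem C hC.1 t) hne hC.1 hE hEC le_sup_left hEF
  calc cj t C ≤ C ⊔ cj t C := le_sup_right
    _ = C ⊔ E := this.symm
    _ ≤ H := sup_le hC.2 (hfix E hE hEt)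

end Setup

end Cfsg.Agent.FischerGen
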