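import Cfsg.Agent.Lib.FischerGen.Endgame
import Mathlib.GroupTheory.Transfer

/-!
# Groups generated by order-`p` subgroups pairwise generating one odd group

`Hyp.odd`: the group has odd order. `frobenius`: modulo its centre it has a Frobenius complement.
-/

set_option autoImplicit false
set_option linter.style.haveILetI false

open scoped commutatorElement Pointwise

namespace Cfsg.Agent.FischerGen

open Subgroup

universe u v

section Transfer

variable {X : Type u} {Y : Type v} [Group X] [Group Y] {f : X →* Y} {K : Subgroup X}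

theorem card_map_of_injOn (hinj : Set.InjOn f (K : Set X)) :
    Nat.card (K.map f : Subgroup Y) = Nat.card K :=
  Nat.card_image_of_injOn hinj

theorem comm_iff_forall {S : Subgroup X} :
    IsMulCommutative S ↔ ∀ x ∈ S, ∀ y ∈ S, x * y = y * x := by
  refine ⟨fun h x hx y hy => ?_, fun h => ⟨⟨fun x y => Subtype.ext (h x x.2 y y.2)⟩⟩⟩
  exact congrArg Subtype.val (h.1.1 (⟨x, hx⟩ : S) ⟨y, hy⟩)

/-- Commutativity of derived subgroups passes along maps injective on the group. -/
theorem comm_der_map (hinj : Set.InjOn f (K : Set X)) :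
    IsMulCommutative ↥⁅K.map f, K.map f⁆ ↔ IsMulCommutative ↥⁅K, K⁆ := by
  rw [← map_commutator, comm_iff_forall, comm_iff_forall]
  constructor
  · intro h x hx y hy
    have hxK := commutator_le_self K hx
    have hyK := commutator_le_self K hy
    refine hinj (K.mul_mem hxK hyK) (K.mul_mem hyK hxK) ?_
    rw [map_mul, map_mul, h _ (mem_map_of_mem f hx) _ (mem_map_of_mem f hy)]
  · rintro h _ ⟨x, hx, rfl⟩ _ ⟨y, hy, rfl⟩
    rw [← map_mul, ← map_mul, h x hx y hy]

end Transfer

variable {G : Type u} [Group G] {p : ℕ} {D : Set (Subgroup G)}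

/-- Pulling the hypothesis back to a subgroup with at least two members. -/
theorem Hyp.restrict [Finite G] (h : Hyp p D) {H A B : Subgroup G} (hA : A ∈ D) (hB : B ∈ D)
    (hne : A ≠ B) (hAH : A ≤ H) (hBH : B ≤ H) :
    Hyp p {A' : Subgroup (gen D H) | A'.map (gen D H).subtype ∈ D} := by
  set W := gen D H with hW
  have hsup : ∀ A' B' : Subgroup W, (A' ⊔ B').map W.subtype = A'.map W.subtype ⊔ B'.map W.subtype :=
    fun A' B' => Subgroup.map_sup A' B' _
  have hinj : ∀ S : Subgroup W, Set.InjOn W.subtype (S : Set W) := fun S => W.subtype_injective.injOn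
  have hne' : ∀ A' B' : Subgroup W, A' ≠ B' → A'.map W.subtype ≠ B'.map W.subtype :=
    fun A' B' hn e => hn (map_injective W.subtype_injective e)
  refine ⟨h.prime, h.ne_two, fun A' hA' => ?_, fun A' hA' g => ?_, ?_, ?_, fun A' hA' B' hB' hn => ?_,
    fun A' hA' B' hB' hn C' hC' E' hE' hn' => ?_, fun A' hA' B' hB' hn => ?_,
    fun A' hA' B' hB' hn C' hC' E' hE' hn' hc => ?_⟩
  · rw [← card_map_of_injOn (hinj A'), h.card _ hA']
  · show (cj g A').map W.subtype ∈ D
    have e : (cj g A').map W.subtype = cj (g : G) (A'.map W.subtype) := by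
      rw [cj, cj, map_map, map_map]; rfl
    rw [e]; exact h.conj_mem _ hA' _
  · refine map_injective W.subtype_injective (le_antisymm (map_mono le_top) ?_)
    rw [← MonoidHom.range_eq_map, range_subtype]
    refine sSup_le fun C hC => ?_
    have hCW : C ≤ W := le_gen hC.1 hC.2
    rw [← map_subgroupOf_eq_of_le hCW]
    refine map_mono (le_sSup ?_)
    show (C.subgroupOf W).map W.subtype ∈ D
    rw [map_subgroupOf_eq_of_le hCW]; exact hC.1
  · refine ⟨A.subgroupOf W, ?_, B.subgroupOf W, ?_, fun e => hne ?_⟩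
    · show _ ∈ D; rw [map_subgroupOf_eq_of_le (le_gen hA hAH)]; exact hA
    · show _ ∈ D; rw [map_subgroupOf_eq_of_le (le_gen hB hBH)]; exact hB
    · rw [← map_subgroupOf_eq_of_le (le_gen hA hAH : A ≤ W), e,
        map_subgroupOf_eq_of_le (le_gen hB hBH : B ≤ W)]
  · rw [← card_map_of_injOn (hinj _), hsup]
    exact h.odd _ hA' _ hB' (hne' _ _ hn)
  · rw [← card_map_of_injOn (hinj _), hsup, ← card_map_of_injOn (hinj (C' ⊔ E')), hsup]
    exact h.card_eq _ hA' _ hB' (hne' _ _ hn) _ hC' _ hE' (hne' _ _ hn')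
  · obtain ⟨_, ⟨a, ha, rfl⟩, _, ⟨b, hb, rfl⟩, hab⟩ := h.noncomm _ hA' _ hB' (hne' _ _ hn)
    exact ⟨a, ha, b, hb, fun e => hab (by rw [← map_mul, ← map_mul, e])⟩
  · rw [← comm_der_map (hinj _), hsup] at hc ⊢
    exact h.ab_eq _ hA' _ hB' (hne' _ _ hn) _ hC' _ hE' (hne' _ _ hn') hc

/-- Pushing the hypothesis to a quotient injective on pair groups. -/
theorem Hyp.push [Finite G] (h : Hyp p D) {Y : Type u} [Group Y] (f : G →* Y)
    (hf : Function.Surjective f)
    (hinj : ∀ A ∈ D, ∀ B ∈ D, Set.InjOn f ((A ⊔ B : Subgroup G) : Set G)) :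
    Hyp p ((fun A => A.map f) '' D) := by
  have hne : ∀ A B : Subgroup G, A.map f ≠ B.map f → A ≠ B := fun A B hn e => hn (e ▸ rfl)
  refine ⟨h.prime, h.ne_two, ?_, ?_, ?_, ?_, ?_, ?_, ?_, ?_⟩
  · rintro _ ⟨A, hA, rfl⟩
    rw [card_map_of_injOn ((hinj A hA A hA).mono (by exact (le_sup_left : A ≤ A ⊔ A))), h.card A hA]
  · rintro _ ⟨A, hA, rfl⟩ g
    obtain ⟨x, rfl⟩ := hf g
    refine ⟨cj x A, h.conj_mem A hA x, ?_⟩
    show (cj x A).map f = cj (f x) (A.map f)
    rw [cj, cj, map_map, map_map]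
    congr 1
    ext y
    simp
  · refine top_le_iff.1 ?_
    rw [← map_top_of_surjective f hf, ← h.generates]
    refine map_le_iff_le_comap.2 (sSup_le fun A hA => map_le_iff_le_comap.1 ?_)
    exact le_sSup ⟨A, hA, rfl⟩
  · obtain ⟨A, hA, B, hB, hn⟩ := h.nontriv
    refine ⟨_, ⟨A, hA, rfl⟩, _, ⟨B, hB, rfl⟩, fun e => hn (h.eq_of_le hA hB fun a ha => ?_)⟩
    have h1 : f a ∈ B.map f := (le_of_eq e) (mem_map_of_mem f ha)
    obtain ⟨b, hb, he⟩ := h1
    rwa [← hinj A hA B hB (mem_sup_right hb) (mem_sup_left ha) he]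
  · rintro _ ⟨A, hA, rfl⟩ _ ⟨B, hB, rfl⟩ hn
    rw [← Subgroup.map_sup, card_map_of_injOn (hinj A hA B hB)]
    exact h.odd A hA B hB (hne _ _ hn)
  · rintro _ ⟨A, hA, rfl⟩ _ ⟨B, hB, rfl⟩ hn _ ⟨C, hC, rfl⟩ _ ⟨E, hE, rfl⟩ hn'
    rw [← Subgroup.map_sup, ← Subgroup.map_sup, card_map_of_injOn (hinj A hA B hB),
      card_map_of_injOn (hinj C hC E hE)]
    exact h.card_eq A hA B hB (hne _ _ hn) C hC E hE (hne _ _ hn')
  · rintro _ ⟨A, hA, rfl⟩ _ ⟨B, hB, rfl⟩ hn
    obtain ⟨a, ha, b, hb, hab⟩ := h.noncomm A hA B hB (hne _ _ hn)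
    refine ⟨f a, mem_map_of_mem f ha, f b, mem_map_of_mem f hb, fun e => hab ?_⟩
    rw [← map_mul, ← map_mul] at e
    exact hinj A hA B hB (mul_mem (mem_sup_left ha) (mem_sup_right hb))
      (mul_mem (mem_sup_right hb) (mem_sup_left ha)) e
  · rintro _ ⟨A, hA, rfl⟩ _ ⟨B, hB, rfl⟩ hn _ ⟨C, hC, rfl⟩ _ ⟨E, hE, rfl⟩ hn'
    rw [← Subgroup.map_sup, ← Subgroup.map_sup, comm_der_map (hinj A hA B hB),
      comm_der_map (hinj C hC E hE)]
    exact h.ab_eq A hA B hB (hne _ _ hn) C hC E hE (hne _ _ hn')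

theorem Hyp.odd_aux (n : ℕ) : ∀ (G : Type u) [Group G] [Finite G] (p : ℕ) (D : Set (Subgroup G)),
    Nat.card G = n → Hyp p D → Odd (Nat.card G) := by
  induction n using Nat.strong_induction_on with
  | _ n ih =>
    intro G _ _ p D hn h
    by_contra hG
    obtain ⟨q, hq⟩ := h.exists_setup
    have hsmall : Small D := by
      intro H hH
      by_cases htwo : ∃ A ∈ D, ∃ B ∈ D, A ≠ B ∧ A ≤ H ∧ B ≤ H
      · obtain ⟨A, hA, B, hB, hne, hAH, hBH⟩ := htwo
        refine ih _ (hn ▸ ?_) _ p _ rfl (h.restrict hA hB hne hAH hBH)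
        exact lt_of_le_of_ne (Subgroup.card_le_card_group _)
          fun e => hH (top_le_iff.1 ((eq_top_of_card_eq _ e).ge.trans gen_le))
      · push Not at htwo
        by_cases hone : ∃ A ∈ D, A ≤ H
        · obtain ⟨A, hA, hAH⟩ := hone
          have e : gen D H = A := le_antisymm (sSup_le fun B hB => le_of_eq (by
            by_contra hBA
            exact htwo B hB.1 A hA hBA hB.2 hAH)) (le_gen hA hAH)
          rw [e, h.card A hA]
          exact h.prime.odd_of_ne_two h.ne_two
        · push Not at hone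
          have e : gen D H = ⊥ := le_bot_iff.1 (sSup_le fun B hB => absurd hB.2 (hone B hB.1))
          rw [e, card_bot]
          exact odd_one
    refine Ctx.false (D := D) (p := p) (q := q) ⟨hq, hsmall, hG, ?_⟩
    by_contra hZ
    haveI : Fact (Nat.Prime 2) := ⟨Nat.prime_two⟩
    obtain ⟨⟨t, htZ⟩, ht2⟩ := exists_prime_orderOf_dvd_card' 2
      (even_iff_two_dvd.1 (Nat.not_odd_iff_even.1 hZ))
    rw [Subgroup.orderOf_mk] at ht2
    set W := zpowers t with hW
    have hWc : W ≤ center G := zpowers_le.2 htZ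
    haveI : W.Normal := ⟨fun x hx g => by
      rwa [mem_center_iff.1 (hWc hx) g, mul_inv_cancel_right]⟩
    have hWcard : Nat.card W = 2 := by rw [hW, Nat.card_zpowers, ht2]
    set f := QuotientGroup.mk' W with hf
    have hinj : ∀ A ∈ D, ∀ B ∈ D, Set.InjOn f ((A ⊔ B : Subgroup G) : Set G) := by
      intro A hA B hB x hx y hy e
      have h1 : x⁻¹ * y ∈ W := QuotientGroup.eq.1 e
      have h2 : x⁻¹ * y ∈ A ⊔ B := mul_mem (inv_mem hx) hy
      have hodd : Odd (Nat.card (A ⊔ B : Subgroup G)) := by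
        by_cases e : A = B
        · subst e; rw [sup_idem, h.card A hA]; exact h.prime.odd_of_ne_two h.ne_two
        · exact h.odd A hA B hB e
      have h3 : orderOf (x⁻¹ * y) ∣ Nat.gcd (Nat.card (A ⊔ B : Subgroup G)) 2 :=
        Nat.dvd_gcd (Subgroup.orderOf_dvd_natCard _ h2) (hWcard ▸ Subgroup.orderOf_dvd_natCard _ h1)
      rw [(Nat.coprime_two_right.2 hodd).gcd_eq_one, Nat.dvd_one, orderOf_eq_one_iff,
        inv_mul_eq_one] at h3
      exact h3
    have hquot : Odd (Nat.card (G ⧸ W)) := by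
      refine ih _ (hn ▸ ?_) _ p _ rfl (h.push f (QuotientGroup.mk'_surjective W) hinj)
      rw [card_eq_card_quotient_mul_card_subgroup W, hWcard]
      exact lt_mul_of_one_lt_right Nat.card_pos one_lt_two
    set i := (center G).index with hi
    set m := Nat.card (G ⧸ W) with hm
    have him : i ∣ m := Subgroup.index_dvd_of_le hWc
    have hpm : p ∣ m := by
      obtain ⟨A, hA, -⟩ := h.nontriv
      have h1 : p ∣ Nat.card G := h.card A hA ▸ Subgroup.card_subgroup_dvd_card A
      rw [card_eq_card_quotient_mul_card_subgroup W, hWcard] at h1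
      exact ((h.prime.dvd_mul).1 h1).resolve_right fun h2 =>
        h.ne_two ((Nat.prime_dvd_prime_iff_eq h.prime Nat.prime_two).1 h2)
    let φ : G →* center G :=
      { toFun := fun g => MonoidHom.transferCenterPow G g ^ m
        map_one' := by rw [map_one, one_pow]
        map_mul' := fun a b => by
          rw [map_mul]
          exact (show Commute (MonoidHom.transferCenterPow G a) (MonoidHom.transferCenterPow G b) from
            Subtype.ext (mem_center_iff.1 (MonoidHom.transferCenterPow G b).2 _)).mul_pow m }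
    have hker : sSup D ≤ φ.ker := by
      refine sSup_le fun A hA x hx => MonoidHom.mem_ker.2 (Subtype.ext ?_)
      have hxp : x ^ p = 1 :=
        orderOf_dvd_iff_pow_eq_one.1 (h.card A hA ▸ Subgroup.orderOf_dvd_natCard A hx)
      obtain ⟨l, hl⟩ := hpm
      show (((MonoidHom.transferCenterPow G x) ^ m : center G) : G) = 1
      push_cast
      rw [MonoidHom.transferCenterPow_apply, ← pow_mul, hl, show (center G).index * (p * l) =
        p * ((center G).index * l) by ring, pow_mul, hxp, one_pow]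
    have ht : φ t = 1 := MonoidHom.mem_ker.1 (hker (h.generates ▸ mem_top t))
    have ht' : t ^ (i * m) = 1 := by
      have := congrArg Subtype.val ht
      simpa [φ, MonoidHom.transferCenterPow_apply, ← pow_mul] using this
    have h2 : 2 ∣ i * m := ht2 ▸ orderOf_dvd_of_pow_eq_one ht'
    exact Nat.not_even_iff_odd.2 ((hquot.of_dvd_nat him).mul hquot) (even_iff_two_dvd.2 h2)

/-- The group has odd order. -/
theorem Hyp.odd_card [Finite G] (h : Hyp p D) : Odd (Nat.card G) :=
  Hyp.odd_aux _ G p D rfl h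

/-- Modulo the centre there is a Frobenius complement. -/
theorem Hyp.frobenius [Finite G] (h : Hyp p D) :
    ∃ K : Subgroup (G ⧸ center G), Cfsg.IsFrobeniusComplement K := by
  haveI := Fact.mk h.prime
  have hodd := h.odd_card
  obtain ⟨q, hq⟩ := h.exists_setup
  obtain ⟨A, hA, B, hB, hne⟩ := h.nontriv
  set π := QuotientGroup.mk' (center G) with hπ
  -- a member below `A ⊔ center` is `A`
  have key : ∀ E ∈ D, E.map π ≤ A.map π → E = A := by
    intro E hE hle
    by_contra hn
    obtain ⟨e, he, a, ha, hea⟩ := h.noncomm E hE A hA hn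
    obtain ⟨a', ha', hπe⟩ := hle (mem_map_of_mem π he)
    have hz : a'⁻¹ * e ∈ center G := QuotientGroup.eq.1 hπe
    refine hea ?_
    have hcA : IsMulCommutative A := by
      haveI : IsCyclic A := isCyclic_of_prime_card (h.card A hA)
      exact ⟨⟨fun x y => (IsCyclic.commGroup (α := A)).mul_comm x y⟩⟩
    have h1 : Commute a a' := comm_iff_forall.1 hcA a ha a' ha'
    have h2 : Commute a (a'⁻¹ * e) := mem_center_iff.1 hz a
    have := h1.mul_right h2
    rw [mul_inv_cancel_left] at this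
    exact this.eq.symm
  refine ⟨A.map π, ?_, ?_, ?_⟩
  · intro e
    refine hne (key B hB ?_).symm
    rw [e]
    refine map_le_iff_le_comap.2 fun b hb => ?_
    -- a central `A` would commute with `B`
    have hAZ : A ≤ center G := by
      rwa [Subgroup.map_eq_bot_iff, QuotientGroup.ker_mk'] at e
    obtain ⟨x, hx, y, hy, hxy⟩ := h.noncomm A hA B hB hne
    exact absurd (mem_center_iff.1 (hAZ hx) y).symm hxy
  · intro e
    exact hne (key B hB (e ▸ le_top)).symm
  · intro g hg
    obtain ⟨x, rfl⟩ := QuotientGroup.mk'_surjective (center G) g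
    have hsmul : (MulAut.conj (π x) • A.map π : Subgroup (G ⧸ center G)) = (cj x A).map π := by
      ext y
      rw [Subgroup.mem_pointwise_smul_iff_inv_smul_mem, MulAut.smul_def, MulAut.inv_apply,
        MulAut.conj_symm_apply]
      constructor
      · rintro ⟨a, ha, he⟩
        refine ⟨x * a * x⁻¹, conj_mem_cj ha, ?_⟩
        rw [map_mul, map_mul, map_inv, he]; group
      · rintro ⟨_, ⟨a, ha, rfl⟩, rfl⟩
        exact ⟨a, ha, by simp [mul_assoc]⟩
    show A.map π ⊓ (MulAut.conj (π x) • A.map π) = ⊥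
    rw [hsmul]
    by_contra hne'
    have hdA : Nat.card (A.map π) ∣ p := h.card A hA ▸ card_map_dvd A π
    have hd : Nat.card (A.map π ⊓ (cj x A).map π : Subgroup (G ⧸ center G)) ∣ p :=
      (card_dvd_of_le inf_le_left).trans hdA
    have hd' : Nat.card ((cj x A).map π) ∣ p := h.card _ (h.conj_mem A hA x) ▸ card_map_dvd _ π
    rcases (Nat.dvd_prime h.prime).1 hd with e | e
    · exact hne' (eq_bot_of_card_eq _ e)
    have h1 : (cj x A).map π ≤ A.map π := inf_eq_right.1
      (eq_of_le_of_card_ge inf_le_right (e ▸ Nat.le_of_dvd h.prime.pos hd'))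
    have hfix := key _ (h.conj_mem A hA x) h1
    have hx : x ∈ gen D (⊤ : Subgroup G) := by rw [h.gen_top]; exact mem_top x
    have hoddg : Odd (Nat.card (gen D (⊤ : Subgroup G))) := by rw [h.gen_top, card_top]; exact hodd
    obtain ⟨r, hr, y, hy, rfl⟩ := h.exists_mul hA le_top hoddg hx
    rw [← cj_mul, cj_eq_of_mem hy] at hfix
    have hrc : r ∈ center G := by
      have := hq.fixed_mem_centralizer hA le_top hoddg hr
        fun z hz => h.commute_of_cj_eq hA le_top hoddg hr hfix hz
      rwa [h.gen_top, coe_top, centralizer_univ] at this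
    refine hg ⟨y, hy, ?_⟩
    show π y = π (r * y)
    rw [map_mul, show π r = 1 from (QuotientGroup.eq_one_iff r).2 hrc, one_mul]

end Cfsg.Agent.FischerGen
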