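import Cfsg.Agent.Lib.FischerGen.Struct
import Cfsg.Agent.Lib.Cores.Basic

/-!
# Special elements

A special element is a noncentral `z` in the derived group of the group generated by the members it
centralises. Main result `pts_le_cen`: a special element outside `O_q(G)` centralising a member `A`
centralises every member below each proper subgroup containing `A` that it normalises.
-/

set_option autoImplicit false
set_option linter.style.haveILetI false

open scoped commutatorElement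

namespace Cfsg.Agent.FischerGen

open Subgroup

universe u

variable {G : Type u} [Group G]

/-- Proper subgroups give odd generated subgroups. -/
def Small (D : Set (Subgroup G)) : Prop := ∀ H : Subgroup G, H ≠ ⊤ → Odd (Nat.card (gen D H))

/-- A noncentral element of the derived group of what its fixed members generate. -/
structure Special (D : Set (Subgroup G)) (z : G) : Prop where
  noncentral : z ∉ center G
  mem : z ∈ der D (cen z)

theorem cen_ne_top {z : G} (hz : z ∉ center G) : cen z ≠ ⊤ := fun e =>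
  hz (mem_center_iff.2 fun g => mem_cen.1 (e ▸ mem_top g))

theorem le_cen_iff {A : Subgroup G} {z : G} : A ≤ cen z ↔ ∀ y ∈ A, z * y = y * z :=
  ⟨fun h _ hy => (mem_cen.1 (h hy)).symm, fun h y hy => mem_cen.2 (h y hy).symm⟩

theorem der_mono {D : Set (Subgroup G)} {H K : Subgroup G} (h : H ≤ K) : der D H ≤ der D K :=
  commutator_mono (gen_mono h) (gen_mono h)

/-- A descent in a nilpotent group `E ⊔ R`. -/
theorem exists_comm_mem [Finite G] {q : ℕ} [Fact q.Prime] {E R T : Subgroup G}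
    (hP : IsPGroup q (E ⊔ R : Subgroup G)) (hE : E ≤ normalizer (R : Set G))
    (hTR : ¬ R ≤ T) : ∃ g ∈ R, g ∉ T ∧ ∀ x ∈ E, ⁅x, g⁆ ∈ T := by
  classical
  set P := E ⊔ R
  haveI : Group.IsNilpotent P := hP.isNilpotent
  obtain ⟨n, hn⟩ := (isNilpotent_iff_lowerCentralSeries P).1 ‹_›
  have hex : ∃ m, P.lowerCentralSeries m ⊓ R ≤ T := ⟨n, by rw [hn, bot_inf_eq]; exact bot_le⟩
  obtain ⟨g, hg, hgT⟩ : ∃ g ∈ P.lowerCentralSeries (Nat.find hex - 1) ⊓ R, g ∉ T := by
    by_contra hc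
    push Not at hc
    rcases Nat.eq_zero_or_pos (Nat.find hex) with h0 | h0
    · refine hTR fun x hx => Nat.find_spec hex ⟨?_, hx⟩
      rw [h0, Subgroup.lowerCentralSeries_zero]
      exact mem_sup_right hx
    · exact Nat.find_min hex (Nat.sub_lt h0 one_pos) hc
  refine ⟨g, hg.2, hgT, fun x hx => Nat.find_spec hex ⟨?_, ?_⟩⟩
  · rcases Nat.eq_zero_or_pos (Nat.find hex) with h0 | h0
    · exact absurd (Nat.find_spec hex (show g ∈ _ from ⟨by
        rw [h0, Subgroup.lowerCentralSeries_zero]; exact mem_sup_right hg.2, hg.2⟩)) hgT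
    · rw [show Nat.find hex = Nat.find hex - 1 + 1 by omega, Subgroup.lowerCentralSeries_succ,
        ← commutatorElement_inv]
      exact Subgroup.inv_mem ⁅P.lowerCentralSeries (Nat.find hex - 1), P⁆
        (commutator_mem_commutator hg.1 (mem_sup_left hx))
  · have h1 : x * g * x⁻¹ ∈ R := (mem_normalizer_iff.1 (hE hx) g).1 hg.2
    rw [commutatorElement_def]
    exact R.mul_mem h1 (R.inv_mem hg.2)

namespace Setup

variable {p q : ℕ} {D : Set (Subgroup G)} [Finite G]

theorem special_gen_le (h : Setup p q D) {H A : Subgroup G} (hA : A ∈ D) (hAH : A ≤ H)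
    (hodd : Odd (Nat.card (gen D H))) {x : G} (hx : x ∈ der D H) (hxA : A ≤ cen x) :
    gen D H ≤ cen x := fun g hg => mem_cen.2 (mem_centralizer_iff.1
      (h.fixed_mem_centralizer hA hAH hodd hx (le_cen_iff.1 hxA)) g hg)

theorem special_of (h : Setup p q D) {H A : Subgroup G} (hA : A ∈ D) (hAH : A ≤ H)
    (hodd : Odd (Nat.card (gen D H))) {x : G} (hx : x ∈ der D H) (hxA : A ≤ cen x)
    (hxZ : x ∉ center G) : Special D x := by
  have h2 := gen_le_gen_of_le (h.special_gen_le hA hAH hodd hx hxA)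
  exact ⟨hxZ, commutator_mono h2 h2 hx⟩

/-- A special element in the derived group belonging to another one has the same generated group. -/
theorem special_gen_eq (h : Setup p q D) (hs : Small D) {z x : G} {A : Subgroup G} (hA : A ∈ D)
    (hz : Special D z) (hx : Special D x) (hAz : A ≤ cen z) (hAx : A ≤ cen x)
    (hxz : x ∈ der D (cen z)) : gen D (cen z) = gen D (cen x) := by
  have h1 := gen_le_gen_of_le (h.special_gen_le hA hAz (hs _ (cen_ne_top hz.noncentral)) hxz hAx)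
  exact le_antisymm h1 (gen_le_gen_of_le (h.special_gen_le hA hAx (hs _ (cen_ne_top hx.noncentral))
    (commutator_mono h1 h1 hz.mem) hAz))

theorem le_cen_of_gen_eq {z x : G} (e : gen D (cen z) = gen D (cen x)) {B : Subgroup G} (hB : B ∈ D)
    (hBx : B ≤ cen x) : B ≤ cen z :=
  ((le_gen hB hBx).trans e.ge).trans gen_le

theorem exists_pow (h : Setup p q D) (hs : Small D) {z : G} {A : Subgroup G} (hA : A ∈ D)
    (hz : Special D z) (hAz : A ≤ cen z) : ∃ k, z ^ q ^ k = 1 := by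
  obtain ⟨k, hk⟩ := h.der_isPGroup hA hAz (hs _ (cen_ne_top hz.noncentral)) ⟨z, hz.mem⟩
  exact ⟨k, by simpa using congrArg Subtype.val hk⟩

/-- The first step: a `q`-element normalising `H` and not centralising all its members produces a
commutator identity. -/
theorem exists_shift (h : Setup p q D) (hnab : Nab D) {H A : Subgroup G} (hA : A ∈ D) (hAH : A ≤ H)
    (hodd : Odd (Nat.card (gen D H))) {z : G} (hzq : ∃ k, z ^ q ^ k = 1) (hAz : A ≤ cen z)
    (hzH : z ∈ normalizer (gen D H : Set G)) (hB : ∃ B ∈ D, B ≤ H ∧ ¬ B ≤ cen z) :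
    ∃ e ε : G, e ∈ der D H ∧ A ≤ cen e ∧ ε ∈ der D H ∧ ε ∈ der D (cen z) ∧ A ≤ cen ε ∧ ε ≠ 1 ∧
      z * e * z⁻¹ = ε * e := by
  haveI := Fact.mk h.qprime
  obtain ⟨a, rfl, ha⟩ := h.exists_gen hA
  set R := der D H with hR
  have haW : a ∈ gen D H := le_gen hA hAH (mem_zpowers a)
  have hza : z * a = a * z := le_cen_iff.1 hAz a (mem_zpowers a)
  have hcent : ∀ x ∈ R, x * a = a * x → ∀ g ∈ gen D H, g * x = x * g := fun x hx hxa g hg =>
    mem_centralizer_iff.1 (h.fixed_mem_centralizer hA hAH hodd hx fun y hy => by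
      obtain ⟨i, rfl⟩ := mem_zpowers_iff.1 hy
      exact ((show Commute x a from hxa).zpow_right i).eq) g hg
  have hRR : ∀ r ∈ R, ∀ s ∈ R, ∀ g ∈ gen D H, g * ⁅r, s⁆ = ⁅r, s⁆ * g := fun r hr s hs g hg =>
    mem_centralizer_iff.1 (h.der_comm hA hAH hodd hnab (commutator_mem_commutator hr hs)) g hg
  have hzR : z ∈ normalizer (R : Set G) := by
    rw [mem_normalizer_iff_cj, hR, der, cj, map_commutator, ← cj, cj_eq_of_mem_normalizer hzH]
  -- the elements whose image of `A` is centralised by `z`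
  let T : Subgroup G :=
    { carrier := {r | r ∈ R ∧ ⁅z, r⁆ * a = a * ⁅z, r⁆}
      one_mem' := ⟨one_mem _, by simp⟩
      mul_mem' := fun {r s} hr hs => by
        refine ⟨mul_mem hr.1 hs.1, ?_⟩
        have hzs : ⁅z, s⁆ ∈ R := by
          rw [commutatorElement_def]
          exact R.mul_mem ((mem_normalizer_iff.1 hzR s).1 hs.1) (R.inv_mem hs.1)
        rw [show ⁅z, r * s⁆ = ⁅z, r⁆ * (r * ⁅z, s⁆ * r⁻¹) by simp only [commutatorElement_def]; group,
          hcent _ hzs hs.2 r (der_le_gen hr.1), mul_inv_cancel_right]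
        exact ((show Commute ⁅z, r⁆ a from hr.2).mul_left (show Commute ⁅z, s⁆ a from hs.2)).eq
      inv_mem' := fun {r} hr => by
        refine ⟨inv_mem hr.1, ?_⟩
        have hzr : ⁅z, r⁆ ∈ R := by
          rw [commutatorElement_def]
          exact R.mul_mem ((mem_normalizer_iff.1 hzR r).1 hr.1) (R.inv_mem hr.1)
        rw [show ⁅z, r⁻¹⁆ = r⁻¹ * ⁅z, r⁆⁻¹ * r by simp only [commutatorElement_def]; group,
          show r⁻¹ * ⁅z, r⁆⁻¹ * r = ⁅z, r⁆⁻¹ by
            rw [mul_assoc, ← (show Commute r ⁅z, r⁆ from hcent _ hzr hr.2 r (der_le_gen hr.1)).inv_right.eq,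
              inv_mul_cancel_left]]
        exact (show Commute ⁅z, r⁆ a from hr.2).inv_left.eq }
  have hTpt : ∀ r ∈ T, cj r (zpowers a) ≤ cen z := by
    intro r hr
    have hzr : ⁅z, r⁆ ∈ R := by
      rw [commutatorElement_def]
      exact R.mul_mem ((mem_normalizer_iff.1 hzR r).1 hr.1) (R.inv_mem hr.1)
    rw [Hyp.cj_zpowers, zpowers_le, mem_cen]
    have hb : r * a * r⁻¹ ∈ gen D H :=
      mul_mem (mul_mem (der_le_gen hr.1) haW) (inv_mem (der_le_gen hr.1))
    symm
    calc z * (r * a * r⁻¹) = (z * r * z⁻¹) * (z * a) * r⁻¹ := by group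
      _ = (z * r * z⁻¹) * (a * z) * r⁻¹ := by rw [hza]
      _ = ⁅z, r⁆ * (r * a * r⁻¹) * ⁅z, r⁆⁻¹ * z := by simp only [commutatorElement_def]; group
      _ = r * a * r⁻¹ * z := by rw [← hcent _ hzr hr.2 _ hb, mul_inv_cancel_right]
  have hTR : ¬ R ≤ T := by
    intro hle
    obtain ⟨B, hBD, hBH, hBz⟩ := hB
    obtain ⟨r, hr, rfl⟩ := h.exists_point hA hAH hodd hBD hBH
    exact hBz (hTpt r (hle hr))
  have hP : IsPGroup q (zpowers z ⊔ R : Subgroup G) := by
    obtain ⟨k, hk⟩ := hzq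
    obtain ⟨j, -, hj⟩ := (Nat.dvd_prime_pow h.qprime).1 (orderOf_dvd_of_pow_eq_one hk)
    exact (IsPGroup.of_card (n := j) (by rw [Nat.card_zpowers, hj])).to_sup_of_normal_right'
      (h.der_isPGroup hA hAH hodd) (zpowers_le.2 hzR)
  obtain ⟨g, hg, hgT, hgx⟩ := exists_comm_mem hP (zpowers_le.2 hzR) hTR
  set t := ⁅z, g⁆ with htdef
  have ht : t ∈ T := hgx z (mem_zpowers z)
  have hta : ¬ t * a = a * t := fun hc => hgT ⟨hg, hc⟩
  -- the line through `A` and `t A t⁻¹` is centralised by `z`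
  set W := cj t (zpowers a) with hW
  have hne : zpowers a ≠ W := fun e =>
    hta (h.commute_of_cj_eq hA hAH hodd ht.1 e.symm (mem_zpowers a))
  have hWD : W ∈ D := h.conj_mem _ hA t
  set F := zpowers a ⊔ W with hF
  have hFz : F ≤ cen z := sup_le hAz (hTpt t ht)
  have hFH : F ≤ gen D H := sup_le (le_gen hA hAH) (cj_le_of_mem (der_le_gen ht.1) (le_gen hA hAH))
  have hgF : gen D F = F := h.gen_pair hA hWD
  have hoddF : Odd (Nat.card (gen D F)) := h.odd_pair hA hWD hne
  obtain ⟨k, hk, hkW⟩ := h.exists_point hA (H := F) le_sup_left hoddF hWD le_sup_right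
  have hFgenz : gen D F ≤ gen D (cen z) := gen_mono hFz
  have hkR : k ∈ R := commutator_mono (hgF.le.trans hFH) (hgF.le.trans hFH) hk
  have hkz : k ∈ der D (cen z) := commutator_mono hFgenz hFgenz hk
  have hzk : z * k = k * z := (mem_cen.1 (hFz (hgF.le (der_le_gen hk)))).symm
  set c := k⁻¹ * t with hc
  have hcR : c ∈ R := mul_mem (inv_mem hkR) ht.1
  have hca : c * a = a * c := h.commute_of_cj_eq hA hAH hodd hcR
    (by rw [hc, ← cj_mul, ← hW, hkW, cj_inv_cj]) (mem_zpowers a)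
  -- some conjugate of `k` does not commute with `k`
  obtain ⟨i, hi⟩ : ∃ i : ℤ, ⁅k, a ^ i * k * (a ^ i)⁻¹⁆ ≠ 1 := by
    by_contra hall
    push Not at hall
    have hall' : ∀ i : ℤ, Commute k (a ^ i * k * (a ^ i)⁻¹) := fun i =>
      commutatorElement_eq_one_iff_commute.1 (hall i)
    set S : Set G := Set.range fun i : ℤ => a ^ i * k * (a ^ i)⁻¹ with hS
    have hSS : ∀ x ∈ S, ∀ y ∈ S, Commute x y := by
      rintro _ ⟨i, rfl⟩ _ ⟨j, rfl⟩
      have := (hall' (j - i)).map (MulAut.conj (a ^ i)).toMonoidHom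
      simp only [MulEquiv.coe_toMonoidHom, MulAut.conj_apply] at this
      convert this using 1
      group
    have haN : a ∈ normalizer (closure S : Set G) := by
      rw [mem_normalizer_iff_cj, cj, MonoidHom.map_closure, closure_le]
      rintro _ ⟨_, ⟨i, rfl⟩, rfl⟩
      refine subset_closure ⟨i + 1, ?_⟩
      simp only [MulEquiv.coe_toMonoidHom, MulAut.conj_apply]
      group
    have hSR : closure S ≤ der D F := by
      rw [closure_le]
      rintro _ ⟨i, rfl⟩
      exact (mem_normalizer_iff.1 (gen_le_normalizer_der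
        (zpow_mem (le_gen hA le_sup_left (mem_zpowers a)) i)) k).1 hk
    have hcomm : ∀ x ∈ closure S, ∀ y ∈ closure S, x * y = y * x := by
      have h1 : closure S ≤ centralizer S :=
        (closure_le _).2 fun x hx => mem_centralizer_iff.2 fun y hy => (hSS y hy x hx).eq
      have h2 : closure S ≤ centralizer (closure S : Set G) := by
        rw [le_centralizer_iff, closure_le]
        exact fun y hy => mem_centralizer_iff.2 fun x hx =>
          (mem_centralizer_iff.1 (h1 hx) y hy).symm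
      exact fun x hx y hy => mem_centralizer_iff.1 (h2 hy) x hx
    have hka : k ∈ cen a :=
      h.le_cen_of_comm hA (H := F) le_sup_left hoddF hnab rfl hSR haN hcomm
        (subset_closure ⟨0, by group⟩)
    refine hne ?_
    rw [hkW, Hyp.cj_zpowers, mem_cen.1 hka, mul_inv_cancel_right]
  set ki := a ^ i * k * (a ^ i)⁻¹ with hki
  set gi := a ^ i * g * (a ^ i)⁻¹ with hgi
  have haiW : a ^ i ∈ gen D H := zpow_mem haW i
  have hkiR : ki ∈ R := (mem_normalizer_iff.1 (gen_le_normalizer_der haiW) k).1 hkR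
  have hgiR : gi ∈ R := (mem_normalizer_iff.1 (gen_le_normalizer_der haiW) g).1 hg
  have hkiz : ki ∈ der D (cen z) :=
    (mem_normalizer_iff.1 (gen_le_normalizer_der
      (zpow_mem (le_gen hA hAz (mem_zpowers a)) i)) k).1 hkz
  have hccent : ∀ x ∈ gen D H, x * c = c * x := hcent c hcR hca
  have hzgi : z * gi * z⁻¹ = ki * (c * gi) := by
    have hzai : Commute z (a ^ i) := (show Commute z a from hza).zpow_right i
    have h1 : z * gi * z⁻¹ = a ^ i * (z * g * z⁻¹) * (a ^ i)⁻¹ := by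
      rw [hgi, show z * (a ^ i * g * (a ^ i)⁻¹) * z⁻¹ = (z * a ^ i) * g * (z * a ^ i)⁻¹ by group,
        hzai.eq]
      group
    rw [h1, show z * g * z⁻¹ = k * c * g by
      rw [hc, mul_inv_cancel_left, htdef, commutatorElement_def]; group,
      hki, hgi, ← mul_assoc (a ^ i) (k * c), ← mul_assoc (a ^ i) k c]
    calc a ^ i * k * c * g * (a ^ i)⁻¹
        = a ^ i * k * (a ^ i)⁻¹ * ((a ^ i * c) * (a ^ i)⁻¹) * (a ^ i * g * (a ^ i)⁻¹) := by group
      _ = _ := by rw [hccent _ haiW]; group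
  refine ⟨⁅k, gi⁆, ⁅k, ki⁆, commutator_le_self _ (commutator_mem_commutator hkR hgiR), ?_,
    commutator_le_self _ (commutator_mem_commutator hkR hkiR),
    commutator_le_self _ (commutator_mem_commutator hkz hkiz), ?_, hi, ?_⟩
  · rw [zpowers_le, mem_cen]; exact hRR k hkR gi hgiR a haW
  · rw [zpowers_le, mem_cen]; exact hRR k hkR ki hkiR a haW
  · have hzk' : z * k * z⁻¹ = k := by rw [hzk, mul_inv_cancel_right]
    have hcg : c * gi ∈ R := mul_mem hcR hgiR
    have e1 : ⁅k, c * gi⁆ = ⁅k, gi⁆ := by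
      rw [commutatorElement_mul_right_eq_mul_conj,
        (commutatorElement_eq_one_iff_mul_comm.2 (hccent k (der_le_gen hkR))), one_mul,
        hRR k hkR gi hgiR c (der_le_gen hcR), mul_inv_cancel_right]
    rw [conjugate_commutatorElement, hzk', hzgi, commutatorElement_mul_right_eq_mul_conj, mul_assoc,
      mul_assoc, ← mul_assoc ki, hRR k hkR _ hcg ki (der_le_gen hkiR), mul_inv_cancel_right, e1]

/-! ### Two special elements normalising each other -/

/-- The derived group of the common fixed members of `z` and `e`. -/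
def meetDer (D : Set (Subgroup G)) (z e : G) : Subgroup G := der D (cen z ⊓ cen e)

/-- Elements fixing `a` in `der D (cen z)` normalising the group of `e`. -/
def sideE (D : Set (Subgroup G)) (a z e : G) : Subgroup G :=
  der D (cen z) ⊓ cen a ⊓ normalizer (gen D (cen e) : Set G)

/-- The subgroup that turns out to be normal. -/
def pairQ (D : Set (Subgroup G)) (a z e : G) : Subgroup G :=
  meetDer D z e ⊔ (sideE D a z e ⊔ sideE D a e z)

theorem pairQ_comm (a z e : G) : pairQ D a z e = pairQ D a e z := by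
  rw [pairQ, pairQ, meetDer, meetDer, inf_comm, sup_comm (sideE D a z e)]

section

variable (h : Setup p q D) (hs : Small D) (hnab : Nab D) {a z e : G} (hA : zpowers a ∈ D)
  (hz : Special D z) (he : Special D e) (haz : zpowers a ≤ cen z) (hae : zpowers a ≤ cen e)
  (hne : gen D (cen z) ≠ gen D (cen e))
include h hs hA hz he haz hae hne

theorem mem_center_of_meet {x : G} (hx : x ∈ der D (cen z)) (hx' : x ∈ der D (cen e))
    (hxa : zpowers a ≤ cen x) : x ∈ center G := by
  by_contra hxZ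
  have hsx := h.special_of hA haz (hs _ (cen_ne_top hz.noncentral)) hx hxa hxZ
  exact hne ((h.special_gen_eq hs hA hz hsx haz hxa hx).trans
    (h.special_gen_eq hs hA he hsx hae hxa hx').symm)

theorem comm_sideE {x y : G} (hx : x ∈ sideE D a z e) (hy : y ∈ sideE D a e z) :
    ⁅x, y⁆ ∈ center G := by
  refine h.mem_center_of_meet hs hA hz he haz hae hne ?_ ?_ ?_
  · rw [show ⁅x, y⁆ = x * (y * x⁻¹ * y⁻¹) by rw [commutatorElement_def]; group]
    refine (der D (cen z)).mul_mem hx.1.1 ((mem_normalizer_iff.1 ?_ x⁻¹).1 (inv_mem hx.1.1))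
    rw [mem_normalizer_iff_cj, der, cj, map_commutator, ← cj, cj_eq_of_mem_normalizer hy.2]
  · rw [show ⁅x, y⁆ = (x * y * x⁻¹) * y⁻¹ by rw [commutatorElement_def]]
    refine (der D (cen e)).mul_mem ((mem_normalizer_iff.1 ?_ y).1 hy.1.1) (inv_mem hy.1.1)
    rw [mem_normalizer_iff_cj, der, cj, map_commutator, ← cj, cj_eq_of_mem_normalizer hx.2]
  · rw [zpowers_le, mem_cen]
    have c1 : Commute a x := (mem_cen.1 hx.1.2).symm
    have c2 : Commute a y := (mem_cen.1 hy.1.2).symm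
    exact ((c1.mul_right c2).mul_right c1.inv_right).mul_right c2.inv_right

include hnab in
/-- The contribution of one side. -/
theorem exists_side (hee : e ∈ sideE D a e z) :
    ∃ H2 : Subgroup G, zpowers a ≤ H2 ∧ gen D H2 ≤ normalizer (pairQ D a z e : Set G) ∧
      (∃ B ∈ D, B ≤ H2 ∧ ¬ B ≤ cen e ∧ B ≤ cen z) ∧
      ∃ e2 ∈ der D H2, e2 ∉ center G ∧ zpowers a ≤ cen e2 ∧
        gen D (cen z) = gen D (cen e2) := by
  haveI := Fact.mk h.qprime
  set W0 := gen D (cen z) with hW0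
  set R0 := der D (cen z) with hR0
  have hodd0 : Odd (Nat.card W0) := hs _ (cen_ne_top hz.noncentral)
  have hodd1 : Odd (Nat.card (gen D (cen e))) := hs _ (cen_ne_top he.noncentral)
  have haW0 : a ∈ W0 := le_gen hA haz (mem_zpowers a)
  have hcent0 : ∀ x ∈ R0, x * a = a * x → ∀ g ∈ W0, g * x = x * g := fun x hx hxa g hg =>
    mem_cen.1 (h.special_gen_le hA haz hodd0 hx (zpowers_le.2 (mem_cen.2 hxa.symm)) hg)
  have hcent1 : ∀ x ∈ der D (cen e), x * a = a * x → ∀ g ∈ gen D (cen e), g * x = x * g :=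
    fun x hx hxa g hg =>
      mem_cen.1 (h.special_gen_le hA hae hodd1 hx (zpowers_le.2 (mem_cen.2 hxa.symm)) hg)
  have hRR : ∀ r ∈ R0, ∀ s ∈ R0, ∀ g ∈ W0, g * ⁅r, s⁆ = ⁅r, s⁆ * g := fun r hr s hs' g hg =>
    mem_centralizer_iff.1 (h.der_comm hA haz hodd0 hnab (commutator_mem_commutator hr hs')) g hg
  set HS := cen z ⊓ cen e with hHS
  set RS := meetDer D z e with hRS
  have hRS0 : RS ≤ R0 := der_mono inf_le_left
  have hRS1 : RS ≤ der D (cen e) := der_mono inf_le_right
  have haHS : zpowers a ≤ HS := le_inf haz hae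
  have hoddS : Odd (Nat.card (gen D HS)) :=
    hodd0.of_dvd_nat (Subgroup.card_dvd_of_le (gen_mono inf_le_left))
  set E1 := sideE D a e z with hE1
  have hE1R : ∀ x ∈ E1, x ∈ normalizer (R0 : Set G) := fun x hx => by
    rw [mem_normalizer_iff_cj, hR0, der, cj, map_commutator, ← cj, cj_eq_of_mem_normalizer hx.2]
  have hE1a : ∀ x ∈ E1, x * a = a * x := fun x hx => mem_cen.1 hx.1.2
  have hE1S : ∀ x ∈ E1, ∀ k ∈ RS, x * k = k * x := fun x hx k hk =>
    (hcent1 x hx.1.1 (hE1a x hx) k (der_le_gen (hRS1 hk))).symm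
  set C0 := R0 ⊓ cen a with hC0
  have hC0c : ∀ c ∈ C0, ∀ g ∈ W0, g * c = c * g := fun c hc => hcent0 c hc.1 (mem_cen.1 hc.2)
  -- the elements moving `A` only inside the common part
  let T0 : Subgroup G :=
    { carrier := {t | ∃ k ∈ RS, ∃ c ∈ C0, t = k * c}
      one_mem' := ⟨1, one_mem _, 1, one_mem _, (one_mul 1).symm⟩
      mul_mem' := by
        rintro _ _ ⟨k, hk, c, hc, rfl⟩ ⟨k', hk', c', hc', rfl⟩
        refine ⟨k * k', mul_mem hk hk', c * c', mul_mem hc hc', ?_⟩
        rw [mul_assoc, mul_assoc k k', ← mul_assoc c, ← hC0c c hc k' (der_le_gen (hRS0 hk')), mul_assoc]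
      inv_mem' := by
        rintro _ ⟨k, hk, c, hc, rfl⟩
        exact ⟨k⁻¹, inv_mem hk, c⁻¹, inv_mem hc, by
          rw [mul_inv_rev, hC0c c⁻¹ (inv_mem hc) k⁻¹ (inv_mem (der_le_gen (hRS0 hk)))]⟩ }
  have hT0R : T0 ≤ R0 := by
    rintro _ ⟨k, hk, c, hc, rfl⟩
    exact mul_mem (hRS0 hk) hc.1
  have hC0T : C0 ≤ T0 := fun c hc => ⟨1, one_mem _, c, hc, (one_mul c).symm⟩
  have hTpt : ∀ r ∈ R0, cj r (zpowers a) ≤ cen e → r ∈ T0 := by
    intro r hr hre
    have hBH : cj r (zpowers a) ≤ HS := le_inf (h.point_le hA haz hodd0 hr) hre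
    obtain ⟨k, hk, hkB⟩ := h.exists_point hA haHS hoddS (h.conj_mem _ hA r) hBH
    refine ⟨k, hk, k⁻¹ * r, ⟨R0.mul_mem (R0.inv_mem (hRS0 hk)) hr, mem_cen.2 ?_⟩, by group⟩
    exact h.commute_of_cj_eq hA haz hodd0 (mul_mem (inv_mem (hRS0 hk)) hr)
      (by rw [← cj_mul, hkB, cj_inv_cj]) (mem_zpowers a)
  have hTR : ¬ R0 ≤ T0 := by
    intro hle
    refine hne ?_
    have h1 : W0 ≤ cen e := by
      refine sSup_le fun B hB => ?_
      obtain ⟨r, hr, rfl⟩ := h.exists_point hA haz hodd0 hB.1 hB.2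
      obtain ⟨k, hk, c, hc, rfl⟩ := hle hr
      rw [← cj_mul, cj_eq_of_commute (g := c) (fun x hx => (hC0c c hc x (le_gen hA haz hx)).symm)]
      exact (h.point_le hA haHS hoddS hk).trans inf_le_right
    have h2 := gen_le_gen_of_le h1
    exact (h.special_gen_eq hs hA he hz hae haz (commutator_mono h2 h2 hz.mem)).symm
  have hP : IsPGroup q (E1 ⊔ R0 : Subgroup G) :=
    ((h.der_isPGroup hA hae hodd1).to_le (fun x (hx : x ∈ sideE D a e z) => hx.1.1)).to_sup_of_normal_right'
      (h.der_isPGroup hA haz hodd0) hE1R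
  obtain ⟨g, hg, hgT, hgx⟩ := exists_comm_mem hP hE1R hTR
  have hT0n : ∀ r ∈ R0, ∀ t ∈ T0, r * t * r⁻¹ ∈ T0 := by
    intro r hr t ht
    rw [show r * t * r⁻¹ = ⁅r, t⁆ * t by rw [commutatorElement_def]; group]
    refine T0.mul_mem (hC0T ⟨commutator_le_self _ (commutator_mem_commutator hr (hT0R ht)), ?_⟩) ht
    exact mem_cen.2 (hRR r hr t (hT0R ht) a haW0).symm
  let U0 : Subgroup G :=
    { carrier := {u | u ∈ R0 ∧ ∀ x ∈ E1, ⁅x, u⁆ ∈ T0}
      one_mem' := ⟨one_mem _, fun x _ => by rw [commutatorElement_one_right]; exact one_mem _⟩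
      mul_mem' := fun {u v} hu hv => ⟨mul_mem hu.1 hv.1, fun x hx => by
        rw [commutatorElement_mul_right_eq_mul_conj, mul_assoc, mul_assoc, ← mul_assoc u]
        exact T0.mul_mem (hu.2 x hx) (hT0n u hu.1 _ (hv.2 x hx))⟩
      inv_mem' := fun {u} hu => ⟨inv_mem hu.1, fun x hx => by
        rw [show ⁅x, u⁻¹⁆ = u⁻¹ * ⁅x, u⁆⁻¹ * u⁻¹⁻¹ by simp only [commutatorElement_def]; group]
        exact hT0n _ (inv_mem hu.1) _ (inv_mem (hu.2 x hx))⟩ }
  have hT0U : T0 ≤ U0 := by
    rintro _ ⟨k, hk, c, hc, rfl⟩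
    refine ⟨mul_mem (hRS0 hk) hc.1, fun x hx => hC0T ⟨?_, ?_⟩⟩
    · rw [commutatorElement_def]
      exact R0.mul_mem ((mem_normalizer_iff.1 (hE1R x hx) _).1 (mul_mem (hRS0 hk) hc.1))
        (R0.inv_mem (R0.mul_mem (hRS0 hk) hc.1))
    · rw [commutatorElement_mul_right_eq_mul_conj,
        commutatorElement_eq_one_iff_mul_comm.2 (hE1S x hx k hk), one_mul]
      have hxc : ⁅x, c⁆ ∈ cen a := by
        rw [commutatorElement_def]
        exact mul_mem (mul_mem (mul_mem hx.1.2 hc.2) (inv_mem hx.1.2)) (inv_mem hc.2)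
      have hxcR : ⁅x, c⁆ ∈ R0 := by
        rw [commutatorElement_def]
        exact R0.mul_mem ((mem_normalizer_iff.1 (hE1R x hx) c).1 hc.1) (R0.inv_mem hc.1)
      rwa [hC0c _ ⟨hxcR, hxc⟩ k (der_le_gen (hRS0 hk)), mul_inv_cancel_right]
  have haU : a ∈ normalizer (U0 : Set G) := by
    rw [mem_normalizer_iff_cj]
    rintro _ ⟨u, hu, rfl⟩
    refine ⟨(mem_normalizer_iff.1 (gen_le_normalizer_der haW0) u).1 hu.1, fun x hx => ?_⟩
    show ⁅x, a * u * a⁻¹⁆ ∈ T0
    obtain ⟨k, hk, c, hc, e'⟩ := hu.2 x hx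
    have hxa : a * x * a⁻¹ = x := by rw [← hE1a x hx, mul_inv_cancel_right]
    refine ⟨a * k * a⁻¹, (mem_normalizer_iff.1 (gen_le_normalizer_der
      (le_gen hA haHS (mem_zpowers a))) k).1 hk, c, hc, ?_⟩
    calc ⁅x, a * u * a⁻¹⁆ = ⁅a * x * a⁻¹, a * u * a⁻¹⁆ := by rw [hxa]
      _ = a * (k * c) * a⁻¹ := by rw [← conjugate_commutatorElement, e']
      _ = a * k * a⁻¹ * (a * c * a⁻¹) := by group
      _ = a * k * a⁻¹ * c := by rw [← mem_cen.1 hc.2, mul_inv_cancel_right]
  set H2 := zpowers a ⊔ U0 with hH2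
  have hH2W : H2 ≤ W0 := sup_le (le_gen hA haz) fun u hu => der_le_gen hu.1
  have hodd2 : Odd (Nat.card (gen D H2)) :=
    hodd0.of_dvd_nat (Subgroup.card_dvd_of_le (gen_le.trans hH2W))
  have heH2 : e ∈ normalizer (gen D H2 : Set G) := by
    refine h.normalizer_le_gen H2 (mem_normalizer_iff_cj.2 ?_)
    rw [cj, Subgroup.map_sup]
    refine sup_le_sup (le_of_eq (cj_eq_of_commute fun x hx => le_cen_iff.1 hae x hx)) ?_
    rintro _ ⟨u, hu, rfl⟩
    show e * u * e⁻¹ ∈ U0
    rw [show e * u * e⁻¹ = ⁅e, u⁆ * u by rw [commutatorElement_def]; group]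
    exact mul_mem (hT0U (hu.2 e hee)) hu
  have hgU : g ∈ U0 := ⟨hg, hgx⟩
  set B := cj g (zpowers a) with hB
  have hBH2 : B ≤ H2 := cj_le_of_mem (mem_sup_right hgU) le_sup_left
  have hBe : ¬ B ≤ cen e := fun hc => hgT (hTpt g hg hc)
  have hBz : B ≤ cen z := hBH2.trans (hH2W.trans gen_le)
  obtain ⟨e2, ε, he2, he2a, -, -, -, hε, heq⟩ := h.exists_shift hnab hA (H := H2) le_sup_left hodd2
    (h.exists_pow hs hA he hae) hae heH2 ⟨B, h.conj_mem _ hA g, hBH2, hBe⟩
  have he2Z : e2 ∉ center G := fun hc => hε (by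
    rw [mem_center_iff.1 hc e, mul_inv_cancel_right] at heq
    exact mul_right_cancel ((one_mul e2).trans heq).symm)
  have he2R : e2 ∈ R0 := commutator_mono (gen_mono (hH2W.trans gen_le)) (gen_mono (hH2W.trans gen_le)) he2
  refine ⟨H2, le_sup_left, ?_, ⟨B, h.conj_mem _ hA g, hBH2, hBe, hBz⟩, e2, he2, he2Z, he2a,
    h.special_gen_eq hs hA hz (h.special_of hA haz hodd0 he2R he2a he2Z) haz he2a he2R⟩
  -- normalising the candidate
  set E0 := sideE D a z e with hE0
  have hcomm0 : ∀ x ∈ E0, ∀ g ∈ W0, g * x = x * g := fun x hx =>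
    hcent0 x hx.1.1 (mem_cen.1 hx.1.2)
  have hA0 : ∀ u ∈ U0, ∀ σ ∈ RS, ⁅u, σ⁆ ∈ E0 := by
    intro u hu σ hσ
    have hmemR : ⁅u, σ⁆ ∈ R0 := commutator_le_self _ (commutator_mem_commutator hu.1 (hRS0 hσ))
    have hmema : ⁅u, σ⁆ ∈ cen a := mem_cen.2 (hRR u hu.1 σ (hRS0 hσ) a haW0).symm
    refine ⟨⟨hmemR, hmema⟩, ?_⟩
    obtain ⟨k, hk, c, hc, e'⟩ := hu.2 e hee
    set δ := ⁅k, σ⁆ with hδ
    have hδmem : δ ∈ RS := commutator_le_self _ (commutator_mem_commutator hk hσ)
    have hδa : δ * a = a * δ :=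
      (mem_centralizer_iff.1 (h.der_comm hA haHS hoddS hnab (commutator_mem_commutator hk hσ)) a
        (le_gen hA haHS (mem_zpowers a))).symm
    have hδc : δ ∈ center G := h.mem_center_of_meet hs hA hz he haz hae hne (hRS0 hδmem) (hRS1 hδmem)
      (zpowers_le.2 (mem_cen.2 hδa.symm))
    have heσ : e * σ * e⁻¹ = σ := by rw [hE1S e hee σ hσ, mul_inv_cancel_right]
    have heu : e * u * e⁻¹ = k * c * u := by rw [← e', commutatorElement_def]; group
    have hcσ : ⁅c, σ⁆ = 1 :=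
      commutatorElement_eq_one_iff_mul_comm.2 (hC0c c hc σ (der_le_gen (hRS0 hσ))).symm
    have hkc : k * c ∈ W0 := mul_mem (der_le_gen (hRS0 hk)) (der_le_gen hc.1)
    have hshift : e * ⁅u, σ⁆ * e⁻¹ = δ * ⁅u, σ⁆ := by
      rw [conjugate_commutatorElement, heσ, heu]
      calc ⁅k * c * u, σ⁆ = k * c * ⁅u, σ⁆ * (k * c)⁻¹ * (k * ⁅c, σ⁆ * k⁻¹ * ⁅k, σ⁆) := by
            simp only [commutatorElement_def]; group
        _ = ⁅u, σ⁆ * δ := by rw [hcσ, hRR u hu.1 σ (hRS0 hσ) _ hkc, hδ]; group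
        _ = δ * ⁅u, σ⁆ := mem_center_iff.1 hδc _
    -- hence `⁅u, σ⁆` normalises the centraliser of `e`
    have hn : ⁅u, σ⁆ ∈ normalizer (cen e : Set G) := by
      rw [mem_normalizer_iff_cj]
      intro x hx
      rw [mem_cj] at hx
      have h1 := mem_cen.1 hx
      rw [mem_cen]
      set w := ⁅u, σ⁆ with hw
      have h2 : w * e * w⁻¹ = δ⁻¹ * e := by
        rw [eq_inv_mul_iff_mul_eq, ← mul_assoc, ← mul_assoc, ← hshift]
        group
      have h3 : Commute x (δ⁻¹ * e) := by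
        rw [← h2]
        calc x * (w * e * w⁻¹) = w * ((w⁻¹ * x * w) * e) * w⁻¹ := by group
          _ = w * (e * (w⁻¹ * x * w)) * w⁻¹ := by rw [h1]
          _ = w * e * w⁻¹ * x := by group
      have h4 : Commute x δ := mem_center_iff.1 hδc x
      have := h4.mul_right h3
      rwa [mul_inv_cancel_left] at this
    exact h.normalizer_le_gen _ hn
  set Q := pairQ D a z e with hQ
  have hRSQ : RS ≤ Q := le_sup_left
  have hE0Q : E0 ≤ Q := le_sup_of_le_right le_sup_left
  have hE1Q : E1 ≤ Q := le_sup_of_le_right le_sup_right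
  have haQ : a ∈ normalizer (Q : Set G) := by
    rw [mem_normalizer_iff_cj, hQ, pairQ, cj, Subgroup.map_sup, Subgroup.map_sup]
    refine sup_le_sup ?_ (sup_le_sup ?_ ?_)
    · exact (cj_eq_of_mem_normalizer (gen_le_normalizer_der (le_gen hA haHS (mem_zpowers a)))).le
    · exact (cj_eq_of_commute fun x (hx : x ∈ sideE D a z e) => (mem_cen.1 hx.1.2).symm).le
    · exact (cj_eq_of_commute fun x (hx : x ∈ sideE D a e z) => (mem_cen.1 hx.1.2).symm).le
  have hUQ : ∀ u ∈ U0, ⁅u, a⁆ ∈ normalizer (Q : Set G) := by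
    intro u hu
    set g' := ⁅u, a⁆ with hg'
    have hg'U : g' ∈ U0 := by
      rw [hg', commutatorElement_def, show u * a * u⁻¹ * a⁻¹ = u * (a * u⁻¹ * a⁻¹) by group]
      exact mul_mem hu ((mem_normalizer_iff.1 haU u⁻¹).1 (inv_mem hu))
    have hconjRS : ∀ σ ∈ RS, g' * σ * g'⁻¹ ∈ Q := fun σ hσ => by
      rw [show g' * σ * g'⁻¹ = ⁅g', σ⁆ * σ by rw [commutatorElement_def]; group]
      exact mul_mem (hE0Q (hA0 g' hg'U σ hσ)) (hRSQ hσ)
    have hle : cj g' Q ≤ Q := by
      rw [hQ, pairQ, cj, Subgroup.map_sup, Subgroup.map_sup]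
      refine sup_le ?_ (sup_le ?_ ?_)
      · rintro _ ⟨σ, hσ, rfl⟩; exact hconjRS σ hσ
      · rintro _ ⟨x, hx, rfl⟩
        show g' * x * g'⁻¹ ∈ Q
        rw [hcomm0 x hx g' (der_le_gen hg'U.1), mul_inv_cancel_right]
        exact hE0Q hx
      · rintro _ ⟨y, hy, rfl⟩
        show g' * y * g'⁻¹ ∈ Q
        obtain ⟨k, hk, c, hc, e'⟩ := hu.2 y hy
        set t := ⁅y, u⁆ with ht
        have hya : y * a * y⁻¹ = a := by rw [hE1a y hy, mul_inv_cancel_right]
        have e1 : y * g' * y⁻¹ = ⁅t * u, a⁆ := by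
          rw [hg', conjugate_commutatorElement, hya, ht, commutatorElement_def y u]
          congr 1
          group
        have e2 : g' * y * g'⁻¹ = (g' * ⁅t, a⁆⁻¹ * g'⁻¹) * ⁅t, g'⁆⁻¹ * y := by
          rw [show g' * y * g'⁻¹ = g' * (y * g' * y⁻¹)⁻¹ * y by group, e1,
            show ⁅t * u, a⁆ = ⁅t, g'⁆ * (g' * ⁅t, a⁆) by
              rw [hg']; simp only [commutatorElement_def]; group]
          group
        have hkg : ⁅t, g'⁆ = ⁅k, g'⁆ := by
          rw [e', show ⁅k * c, g'⁆ = k * ⁅c, g'⁆ * k⁻¹ * ⁅k, g'⁆ by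
            simp only [commutatorElement_def]; group,
            commutatorElement_eq_one_iff_mul_comm.2 (hC0c c hc g' (der_le_gen hg'U.1)).symm]
          group
        have hta : ⁅t, a⁆ ∈ RS := by
          rw [e', show ⁅k * c, a⁆ = k * ⁅c, a⁆ * k⁻¹ * ⁅k, a⁆ by
            simp only [commutatorElement_def]; group,
            commutatorElement_eq_one_iff_mul_comm.2 (mem_cen.1 hc.2), mul_one, mul_inv_cancel, one_mul]
          exact commutator_mem_commutator (der_le_gen hk) (le_gen hA haHS (mem_zpowers a))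
        rw [e2, hkg, commutatorElement_inv k g']
        exact mul_mem (mul_mem (hconjRS _ (inv_mem hta)) (hE0Q (hA0 g' hg'U k hk))) (hE1Q hy)
    exact mem_normalizer_iff_cj.2 hle
  refine sSup_le fun C hC => ?_
  obtain ⟨r, hr, rfl⟩ := h.exists_point hA le_sup_left hodd2 hC.1 hC.2
  have hrU : r ∈ U0 :=
    ((commutator_mono gen_le gen_le).trans (commutator_zpowers_sup_le haU)) hr
  rw [Hyp.cj_zpowers, zpowers_le, show r * a * r⁻¹ = ⁅r, a⁆ * a by rw [commutatorElement_def]; group]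
  exact mul_mem (hUQ r hrU) haQ

include hnab in
/-- Two special elements normalising each other's groups give a normal `q`-subgroup. -/
theorem mem_pCore (hzz : z ∈ sideE D a z e) (hee : e ∈ sideE D a e z) : z ∈ pCore q G := by
  haveI := Fact.mk h.qprime
  obtain ⟨H2, haH2, hN2, ⟨B, hB, hBH2, -, hBz⟩, e2, he2, he2Z, he2a, heq⟩ :=
    h.exists_side hs hnab hA hz he haz hae hne hee
  obtain ⟨H3, -, hN3, ⟨C, hC, hCH3, hCz, -⟩, -⟩ :=
    h.exists_side hs hnab hA he hz hae haz (Ne.symm hne) hzz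
  rw [pairQ_comm] at hN3
  set Q := pairQ D a z e with hQ
  set N := normalizer (Q : Set G) with hN
  have hNtop : N = ⊤ := by
    by_contra hne'
    refine hCz (le_cen_of_gen_eq heq hC ?_)
    have haN : zpowers a ≤ N := (le_gen hA haH2).trans hN2
    have h1 := gen_le_gen_of_le hN2
    have h2 := h.special_gen_le hA haN (hs _ hne') (commutator_mono h1 h1 he2) he2a
    exact (le_gen hC ((le_gen hC hCH3).trans hN3)).trans h2
  haveI hQn : Q.Normal := normalizer_eq_top_iff.1 hNtop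
  have hodd0 : Odd (Nat.card (gen D (cen z))) := hs _ (cen_ne_top hz.noncentral)
  have hodd1 : Odd (Nat.card (gen D (cen e))) := hs _ (cen_ne_top he.noncentral)
  have hR0 := h.der_isPGroup hA haz hodd0
  have hR1 := h.der_isPGroup hA hae hodd1
  have hSq : IsPGroup q (meetDer D z e) := hR0.to_le (der_mono inf_le_left)
  have hE0 : IsPGroup q (sideE D a z e) := hR0.to_le fun x hx => hx.1.1
  have hE1 : IsPGroup q (sideE D a e z) := hR1.to_le fun x hx => hx.1.1
  -- the sides centralise the meet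
  have hc0 : ∀ x ∈ sideE D a z e, ∀ σ ∈ meetDer D z e, σ * x = x * σ := fun x hx σ hσ =>
    mem_cen.1 (h.special_gen_le hA haz hodd0 hx.1.1 (zpowers_le.2 (mem_cen.2 (mem_cen.1 hx.1.2).symm))
      (der_le_gen (der_mono inf_le_left hσ)))
  have hc1 : ∀ x ∈ sideE D a e z, ∀ σ ∈ meetDer D z e, σ * x = x * σ := fun x hx σ hσ =>
    mem_cen.1 (h.special_gen_le hA hae hodd1 hx.1.1 (zpowers_le.2 (mem_cen.2 (mem_cen.1 hx.1.2).symm))
      (der_le_gen (der_mono inf_le_right hσ)))
  have hn0 : sideE D a z e ≤ normalizer (meetDer D z e : Set G) := fun x hx =>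
    mem_normalizer_iff_cj.2 (cj_eq_of_commute fun σ hσ => (hc0 x hx σ hσ).symm).le
  have hn1 : sideE D a e z ≤
      normalizer ((sideE D a z e ⊔ meetDer D z e : Subgroup G) : Set G) := by
    intro y hy
    rw [mem_normalizer_iff_cj, cj, Subgroup.map_sup]
    refine sup_le_sup ?_ (cj_eq_of_commute fun σ hσ => (hc1 y hy σ hσ).symm).le
    rintro _ ⟨x, hx, rfl⟩
    show y * x * y⁻¹ ∈ sideE D a z e
    rw [show y * x * y⁻¹ = ⁅y, x⁆ * x by rw [commutatorElement_def]; group]
    refine mul_mem ⟨⟨?_, ?_⟩, ?_⟩ hx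
    · rw [commutatorElement_def]
      refine (der D (cen z)).mul_mem ((mem_normalizer_iff.1 ?_ x).1 hx.1.1) (inv_mem hx.1.1)
      rw [mem_normalizer_iff_cj, der, cj, map_commutator, ← cj, cj_eq_of_mem_normalizer hy.2]
    · exact mem_cen.2 (mem_center_iff.1 (by
        rw [← commutatorElement_inv]; exact inv_mem (h.comm_sideE hs hA hz he haz hae hne hx hy)) a).symm
    · have hc : ⁅y, x⁆ ∈ center G := by
        rw [← commutatorElement_inv]; exact inv_mem (h.comm_sideE hs hA hz he haz hae hne hx hy)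
      exact mem_normalizer_iff_cj.2 (cj_eq_of_commute fun w _ => (mem_center_iff.1 hc w).symm).le
  have hQq : IsPGroup q Q := by
    have := hE1.to_sup_of_normal_right' (hE0.to_sup_of_normal_right' hSq hn0) hn1
    rwa [hQ, pairQ, show meetDer D z e ⊔ (sideE D a z e ⊔ sideE D a e z) =
      sideE D a e z ⊔ (sideE D a z e ⊔ meetDer D z e) by ac_rfl]
  exact Cores.le_pCore hQn hQq (mem_sup_right (mem_sup_left hzz) : z ∈ Q)

end

/-- A special element outside `O_q(G)` centralising `A` centralises all members below a proper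
subgroup containing `A` that it normalises. -/
theorem pts_le_cen (h : Setup p q D) (hs : Small D) (hnab : Nab D) {z : G} (hz : Special D z)
    (hzQ : z ∉ pCore q G) {H A : Subgroup G} (hA : A ∈ D) (hAH : A ≤ H) (hH : H ≠ ⊤)
    (hAz : A ≤ cen z) (hzH : z ∈ normalizer (H : Set G)) {B : Subgroup G} (hB : B ∈ D)
    (hBH : B ≤ H) : B ≤ cen z := by
  by_contra hBz
  obtain ⟨a, rfl, ha⟩ := h.exists_gen hA
  have hzn := h.normalizer_le_gen H hzH
  obtain ⟨e, ε, he, hea, hεH, hεz, hεa, hε1, heq⟩ := h.exists_shift hnab hA hAH (hs H hH)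
    (h.exists_pow hs hA hz hAz) hAz hzn ⟨B, hB, hBH, hBz⟩
  have hεc : ε ∈ center G := by
    by_contra hεZ
    have hsε := h.special_of hA hAH (hs H hH) hεH hεa hεZ
    refine hBz (le_cen_of_gen_eq (h.special_gen_eq hs hA hz hsε hAz hεa hεz) hB ?_)
    exact (le_gen hB hBH).trans (h.special_gen_le hA hAH (hs H hH) hεH hεa)
  have heZ : e ∉ center G := fun hc => hε1 (by
    rw [mem_center_iff.1 hc z, mul_inv_cancel_right] at heq
    exact mul_right_cancel ((one_mul e).trans heq).symm)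
  have hse := h.special_of hA hAH (hs H hH) he hea heZ
  have hBe : B ≤ cen e := (le_gen hB hBH).trans (h.special_gen_le hA hAH (hs H hH) he hea)
  have hne : gen D (cen z) ≠ gen D (cen e) := fun eq => hBz (le_cen_of_gen_eq eq hB hBe)
  have hze : z * e = ε * e * z := by rw [← heq, inv_mul_cancel_right]
  have hεcomm : ∀ w, w * ε = ε * w := mem_center_iff.1 hεc
  have hzn' : z ∈ normalizer (cen e : Set G) := by
    rw [mem_normalizer_iff_cj]
    intro x hx
    rw [mem_cj] at hx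
    rw [mem_cen]
    have h1 : Commute (z⁻¹ * x * z) e := mem_cen.1 hx
    have h2 := h1.map (MulAut.conj z).toMonoidHom
    simp only [MulEquiv.coe_toMonoidHom, MulAut.conj_apply] at h2
    rw [show z * (z⁻¹ * x * z) * z⁻¹ = x by group, heq] at h2
    have h4 : Commute x ε⁻¹ := (show Commute x ε from hεcomm x).inv_right
    have := h4.mul_right h2
    rwa [inv_mul_cancel_left] at this
  have hen' : e ∈ normalizer (cen z : Set G) := by
    rw [mem_normalizer_iff_cj]
    intro x hx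
    rw [mem_cj] at hx
    rw [mem_cen]
    have h1 : Commute (e⁻¹ * x * e) z := mem_cen.1 hx
    have h2 := h1.map (MulAut.conj e).toMonoidHom
    simp only [MulEquiv.coe_toMonoidHom, MulAut.conj_apply] at h2
    have h5 : e * z * e⁻¹ = ε⁻¹ * z := by
      rw [eq_inv_mul_iff_mul_eq, ← mul_assoc, ← mul_assoc, ← hze, mul_inv_cancel_right]
    rw [show e * (e⁻¹ * x * e) * e⁻¹ = x by group, h5] at h2
    have h4 : Commute x ε := hεcomm x
    have := h4.mul_right h2
    rwa [mul_inv_cancel_left] at this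
  refine hzQ (h.mem_pCore hs hnab hA hz hse hAz hea hne
    ⟨⟨hz.mem, mem_cen.2 (le_cen_iff.1 hAz a (mem_zpowers a))⟩, h.normalizer_le_gen _ hzn'⟩
    ⟨⟨hse.mem, mem_cen.2 (le_cen_iff.1 hea a (mem_zpowers a))⟩, h.normalizer_le_gen _ hen'⟩)

end Setup

end Cfsg.Agent.FischerGen
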