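import Cfsg.Agent.Lib.FischerGen.Pair
import Cfsg.Agent.Lib.FischerGen.Invol

/-!
# Problem elements at an involution

Under `Ctx` (even order, odd centre, proper subgroups generating odd groups) a problem at an involution `t` is an
element of the derived group of a moved line that commutes with `t` and the centre of the line but lies outside
`O(C(t))`. `no_problem_or_single`: there is none, unless `der D (C(t)) ≤ O_q(G)` with nonabelian pair groups.
-/

set_option autoImplicit false
set_option linter.style.haveILetI false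

open scoped commutatorElement

namespace Cfsg.Agent.FischerGen

open Subgroup

universe u

variable {G : Type u} [Group G]

/-- The situation of a counterexample of least order. -/
structure Ctx (p q : ℕ) (D : Set (Subgroup G)) : Prop extends Setup p q D where
  small : Small D
  not_odd : ¬ Odd (Nat.card G)
  center_odd : Odd (Nat.card (center G))

/-- `O(C(t))`. -/
def coreO (t : G) : Subgroup G := (Cfsg.pPrimeCore 2 (cen t)).map (cen t).subtype

theorem coreO_le {t : G} : coreO t ≤ cen t := map_subtype_le _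

theorem cen_le_normalizer_coreO {t : G} : cen t ≤ normalizer (coreO t : Set G) :=
  le_normalizer.trans (Cores.normalizer_le_normalizer_map _)

theorem not_two_dvd_coreO [Finite G] {t : G} : ¬ 2 ∣ Nat.card (coreO t) := by
  rw [coreO, Cores.card_map_subtype]
  exact Nat.prime_two.coprime_iff_not_dvd.1 (Cores.coprime_card_pPrimeCore 2).symm

theorem le_coreO [Finite G] {t : G} {N : Subgroup G} (hN : N ≤ cen t)
    (hn : cen t ≤ normalizer (N : Set G)) (hodd : Odd (Nat.card N)) : N ≤ coreO t := by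
  rw [← map_subgroupOf_eq_of_le hN]
  exact map_mono (Cores.le_pPrimeCore (Cores.subgroupOf_normal_of_le_normalizer hn)
    (by rw [Cores.card_subgroupOf hN]; exact Nat.coprime_two_right.2 hodd))

theorem cj_cen (g t : G) : cj g (cen t) = cen (g * t * g⁻¹) := by
  ext x
  rw [mem_cj, mem_cen, mem_cen]
  constructor <;> intro h
  · calc x * (g * t * g⁻¹) = g * ((g⁻¹ * x * g) * t) * g⁻¹ := by group
      _ = g * (t * (g⁻¹ * x * g)) * g⁻¹ := by rw [h]
      _ = g * t * g⁻¹ * x := by group
  · calc g⁻¹ * x * g * t = g⁻¹ * (x * (g * t * g⁻¹)) * g := by group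
      _ = g⁻¹ * (g * t * g⁻¹ * x) * g := by rw [h]
      _ = t * (g⁻¹ * x * g) := by group

theorem inv_of_sq {t : G} (ht : t * t = 1) : t⁻¹ = t := inv_eq_of_mul_eq_one_right ht

namespace Hyp

variable {p : ℕ} {D : Set (Subgroup G)}

theorem cj_gen (h : Hyp p D) (g : G) (H : Subgroup G) : cj g (gen D H) = gen D (cj g H) := by
  refine le_antisymm (map_le_iff_le_comap.2 (sSup_le fun A hA => map_le_iff_le_comap.1
    (le_gen (h.conj_mem A hA.1 g) (cj_mono hA.2)))) (sSup_le fun A hA => ?_)
  rw [← cj_cj_inv g A]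
  exact cj_mono (le_gen (h.conj_mem A hA.1 g⁻¹) ((cj_mono hA.2).trans (cj_inv_cj g H).le))

theorem cj_der (h : Hyp p D) (g : G) (H : Subgroup G) : cj g (der D H) = der D (cj g H) := by
  rw [der, cj, map_commutator, ← cj, h.cj_gen]

end Hyp

/-- A problem element with its data. -/
structure Problem (D : Set (Subgroup G)) (t z : G) (f C : Subgroup G) : Prop where
  f_mem : f ∈ D
  f_le : f ≤ cen t
  C_mem : C ∈ D
  moved : C ≠ cj t C
  f_line : f ≤ C ⊔ cj t C
  z_mem : z ∈ der D (C ⊔ cj t C)
  f_cen : f ≤ cen z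
  z_cen : z ∈ cen t
  not_core : z ∉ coreO t

namespace Ctx

variable {p q : ℕ} {D : Set (Subgroup G)} [Finite G] (c : Ctx p q D) {t : G}
include c

theorem not_central_of_invol {x : G} (hx : x * x = 1) (hx1 : x ≠ 1) : x ∉ center G := fun h => by
  haveI : Fact (Nat.Prime 2) := ⟨Nat.prime_two⟩
  have h2 : orderOf x = 2 := orderOf_eq_prime (by rw [sq, hx]) hx1
  have := Subgroup.orderOf_dvd_natCard (center G) h
  rw [h2] at this
  exact Nat.not_even_iff_odd.2 c.center_odd (even_iff_two_dvd.2 this)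

theorem cen_ne_top_of_invol (ht : t * t = 1) (ht1 : t ≠ 1) : cen t ≠ ⊤ :=
  cen_ne_top (c.not_central_of_invol ht ht1)

theorem center_le_coreO : center G ≤ coreO t :=
  le_coreO (fun x hx => mem_cen.2 (mem_center_iff.1 hx t).symm)
    (le_of_le_of_eq le_top (normalizer_eq_top (center G)).symm) c.center_odd

theorem pCore_inf_le_coreO : Cfsg.pCore q G ⊓ cen t ≤ coreO t := by
  haveI := Fact.mk c.qprime
  obtain ⟨n, hn⟩ := IsPGroup.iff_card.1 ((Cores.isPGroup_pCore q G).to_le (inf_le_left (b := cen t)))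
  refine le_coreO inf_le_right (fun g hg => ?_) (hn ▸ (c.qprime.odd_of_ne_two c.q_ne_two).pow)
  rw [mem_normalizer_iff_cj]
  exact le_inf ((cj_mono inf_le_left).trans (le_of_eq (cj_eq_of_mem_normalizer
      (normalizer_eq_top (Cfsg.pCore q G) ▸ mem_top g))))
    ((cj_mono inf_le_right).trans (cj_eq_of_mem hg).le)

end Ctx

namespace Problem

variable {p q : ℕ} {D : Set (Subgroup G)} [Finite G] {t z : G} {f C : Subgroup G}

theorem odd_line (P : Problem D t z f C) (c : Ctx p q D) :
    Odd (Nat.card (gen D (C ⊔ cj t C))) :=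
  c.odd_pair P.C_mem (c.conj_mem C P.C_mem t) P.moved

theorem line_le_cen (P : Problem D t z f C) (c : Ctx p q D) : C ⊔ cj t C ≤ cen z := by
  have := c.toSetup.special_gen_le P.f_mem P.f_line (P.odd_line c) P.z_mem P.f_cen
  rwa [c.gen_pair P.C_mem (c.conj_mem C P.C_mem t)] at this

theorem noncentral (P : Problem D t z f C) (c : Ctx p q D) : z ∉ center G :=
  fun h => P.not_core (c.center_le_coreO h)

theorem special (P : Problem D t z f C) (c : Ctx p q D) : Special D z :=
  c.toSetup.special_of P.f_mem P.f_line (P.odd_line c) P.z_mem P.f_cen (P.noncentral c)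

theorem not_mem_pCore (P : Problem D t z f C) (c : Ctx p q D) : z ∉ Cfsg.pCore q G :=
  fun h => P.not_core (c.pCore_inf_le_coreO ⟨h, P.z_cen⟩)

theorem nab (P : Problem D t z f C) (c : Ctx p q D) : Nab D := by
  refine c.ab_or_nab.resolve_left fun hab => P.not_core ?_
  rw [c.toSetup.fixed_eq_one_of_ab P.f_mem P.f_line (P.odd_line c) hab P.z_mem (le_cen_iff.1 P.f_cen)]
  exact one_mem _

theorem gen_cen_le (P : Problem D t z f C) (c : Ctx p q D) (ht : t * t = 1) (ht1 : t ≠ 1) :
    gen D (cen t) ≤ gen D (cen z) :=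
  sSup_le fun _ hB => le_gen hB.1 (c.toSetup.pts_le_cen c.small (P.nab c) (P.special c)
    (P.not_mem_pCore c) P.f_mem P.f_le (c.cen_ne_top_of_invol ht ht1) P.f_cen
    (le_normalizer P.z_cen) hB.1 hB.2)

theorem le_cen_of_le_cen (P : Problem D t z f C) (c : Ctx p q D) (ht : t * t = 1) (ht1 : t ≠ 1)
    {B : Subgroup G} (hB : B ∈ D) (hBt : B ≤ cen t) : B ≤ cen z :=
  ((le_gen hB hBt).trans (P.gen_cen_le c ht ht1)).trans gen_le

theorem exists_k (P : Problem D t z f C) (c : Ctx p q D) :
    ∃ k ∈ der D (C ⊔ cj t C), C = cj k f :=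
  c.exists_point P.f_mem P.f_line (P.odd_line c) P.C_mem le_sup_left

theorem conj (P : Problem D t z f C) (c : Ctx p q D) {g : G} (hg : g ∈ cen t) :
    Problem D t (g * z * g⁻¹) (cj g f) (cj g C) := by
  have hgt : g * t = t * g := mem_cen.1 hg
  have e : cj t (cj g C) = cj g (cj t C) := by rw [cj_mul, cj_mul, hgt]
  have hline : cj g (C ⊔ cj t C) = cj g C ⊔ cj t (cj g C) := by rw [e, cj, Subgroup.map_sup]
  refine ⟨c.conj_mem f P.f_mem g, (cj_mono P.f_le).trans (cj_eq_of_mem hg).le,
    c.conj_mem C P.C_mem g, fun h => P.moved ?_, (cj_mono P.f_line).trans hline.le, ?_,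
    (cj_mono P.f_cen).trans (cj_cen g z).le, ?_, fun h => P.not_core ?_⟩
  · rw [e] at h
    have h1 := congrArg (cj g⁻¹) h
    rwa [cj_inv_cj, cj_inv_cj] at h1
  · rw [← hline, ← c.cj_der]
    exact conj_mem_cj P.z_mem
  · exact (cj_eq_of_mem hg).le (conj_mem_cj P.z_cen)
  · exact (mem_normalizer_iff.1 (cen_le_normalizer_coreO hg) z).2 h

/-- An element of the line moving the centre to `C` is inverted by `t` up to an element fixing the centre. -/
theorem shift (P : Problem D t z f C) (c : Ctx p q D) (ht : t * t = 1) {k : G}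
    (hk : k ∈ der D (C ⊔ cj t C)) :
    k * (t * k * t) ∈ der D (C ⊔ cj t C) ∧ ∀ x ∈ f, k * (t * k * t) * x = x * (k * (t * k * t)) := by
  set F := C ⊔ cj t C with hF
  have htR : t ∈ normalizer (der D F : Set G) := c.normalizer_le_der F (Setup.mem_normalizer_pair ht C)
  have hkt : t * k * t ∈ der D F := by
    have := (mem_normalizer_iff.1 htR k).1 hk
    rwa [inv_of_sq ht] at this
  set v := k * (t * k * t) with hv
  have hvR : v ∈ der D F := mul_mem hk hkt
  refine ⟨hvR, fun x hx => c.commute_of_cj_eq P.f_mem P.f_line (P.odd_line c) hvR ?_ hx⟩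
  have hcc : t * v * t = v * ⁅(t * k * t)⁻¹, k⁻¹⁆ := by
    calc t * v * t = t * k * t * k * (t * t) := by rw [hv]; group
      _ = v * ⁅(t * k * t)⁻¹, k⁻¹⁆ := by rw [ht, mul_one, hv, commutatorElement_def]; group
  have hfix : cj t (cj v f) = cj v f := by
    calc cj t (cj v f) = cj (t * v * t * t) f := by rw [cj_mul, mul_assoc, ht, mul_one]
      _ = cj (t * v * t) f := by rw [← cj_mul, Setup.cj_eq_of_le_cen P.f_le]
      _ = cj v f := by
        rw [hcc, ← cj_mul, cj_eq_of_commute (g := ⁅(t * k * t)⁻¹, k⁻¹⁆) fun x hx =>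
          (mem_centralizer_iff.1 (c.toSetup.der_comm P.f_mem P.f_line (P.odd_line c) (P.nab c)
            (commutator_mem_commutator (inv_mem hkt) (inv_mem hk))) x (le_gen P.f_mem P.f_line hx)).symm]
  exact c.toSetup.centre_unique ht P.C_mem P.moved (c.conj_mem f P.f_mem v) P.f_mem
    (cj_le_of_mem (gen_le (der_le_gen hvR)) P.f_line) P.f_line hfix (Setup.cj_eq_of_le_cen P.f_le)

end Problem

namespace Ctx

variable {p q : ℕ} {D : Set (Subgroup G)} [Finite G] (c : Ctx p q D) {t : G} (ht : t * t = 1)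
  (ht1 : t ≠ 1)
include c ht ht1

/-- If a commutator leaves `O_q(G)`, it determines the group of every problem. -/
theorem gen_eq_of_cross {z z' : G} {f C f' C' : Subgroup G} (P : Problem D t z f C)
    (P' : Problem D t z' f' C') {k y : G} (hk : k ∈ der D (C ⊔ cj t C)) (hy : y ∈ der D (cen t))
    (hw : ⁅k, y⁆ ∉ Cfsg.pCore q G) : gen D (cen z') = gen D (cen z) := by
  haveI := Fact.mk c.qprime
  have hnab := P.nab c
  have hgz := P.gen_cen_le c ht ht1
  have hodd : Odd (Nat.card (gen D (cen z))) := c.small _ (cen_ne_top (P.noncentral c))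
  have hfz : f ≤ gen D (cen z) := le_gen P.f_mem P.f_cen
  have hline : der D (C ⊔ cj t C) ≤ der D (cen z) := der_mono (P.line_le_cen c)
  have hkR : k ∈ der D (cen z) := hline hk
  have hyR : y ∈ der D (cen z) := commutator_mono hgz hgz hy
  obtain ⟨hvF, hvf⟩ := P.shift c ht hk
  set v := k * (t * k * t) with hv
  have hvc : ∀ g ∈ gen D (cen z), g * v = v * g := fun g hg => mem_centralizer_iff.1
    (c.toSetup.fixed_mem_centralizer P.f_mem P.f_cen hodd (hline hvF) hvf) g hg
  set w := ⁅k, y⁆ with hwdef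
  have hwR : w ∈ der D (cen z) := commutator_le_self _ (commutator_mem_commutator hkR hyR)
  have hwc : ∀ g ∈ gen D (cen z), g * w = w * g := fun g hg => mem_centralizer_iff.1
    (c.toSetup.der_comm P.f_mem P.f_cen hodd hnab (commutator_mem_commutator hkR hyR)) g hg
  have htinv := inv_of_sq ht
  have hyt : t * y * t⁻¹ = y := by
    rw [← mem_cen.1 (gen_le (der_le_gen hy) : y ∈ cen t), mul_inv_cancel_right]
  have hkt : t * k * t⁻¹ = k⁻¹ * v := by rw [hv, htinv, inv_mul_cancel_left]
  have htw : t * w * t = w⁻¹ := by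
    calc t * w * t = ⁅k⁻¹ * v, y⁆ := by
          rw [← hkt, ← hyt, hwdef, ← conjugate_commutatorElement, htinv]
      _ = k⁻¹ * ⁅v, y⁆ * k * ⁅k⁻¹, y⁆ := by simp only [commutatorElement_def]; group
      _ = ⁅k⁻¹, y⁆ := by
          rw [commutatorElement_eq_one_iff_mul_comm.2 (hvc y (der_le_gen hyR)).symm, mul_one,
            inv_mul_cancel, one_mul]
      _ = k⁻¹ * w⁻¹ * k := by rw [hwdef]; simp only [commutatorElement_def]; group
      _ = w⁻¹ := by
          rw [mul_assoc, ← (show Commute k w⁻¹ from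
            (show Commute k w from hwc k (der_le_gen hkR)).inv_right).eq, inv_mul_cancel_left]
  obtain ⟨m, hm⟩ := c.toSetup.der_isPGroup P.f_mem P.f_cen hodd ⟨w, hwR⟩
  have hm' : w ^ q ^ m = 1 := by simpa using congrArg Subtype.val hm
  obtain ⟨j, -, hj⟩ := (Nat.dvd_prime_pow c.qprime).1 (orderOf_dvd_of_pow_eq_one hm')
  have hwZ : w ∉ center G := by
    intro hc
    haveI : (zpowers w).Normal := ⟨fun x hx g => by
      rwa [mem_center_iff.1 ((zpowers_le.2 hc) hx) g, mul_inv_cancel_right]⟩
    exact hw (Cores.le_pCore (inferInstance : (zpowers w).Normal)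
      (IsPGroup.of_card (n := j) (by rw [Nat.card_zpowers, hj])) (mem_zpowers w))
  have hfw : f ≤ cen w := fun x hx => mem_cen.2 (hwc x (hfz hx))
  have hsw : Special D w := c.toSetup.special_of P.f_mem P.f_cen hodd hwR hfw hwZ
  have hzw : gen D (cen z) = gen D (cen w) :=
    c.toSetup.special_gen_eq c.small P.f_mem (P.special c) hsw P.f_cen hfw hwR
  set t' := w * t * w⁻¹ with ht'def
  have ht' : t' * t' = 1 := by
    calc t' * t' = w * (t * t) * w⁻¹ := by rw [ht'def]; group
      _ = 1 := by rw [ht, mul_one, mul_inv_cancel]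
  set H := gen D (cen z') with hH
  have hfixt : ∀ B ∈ D, B ≤ cen t → B ≤ cen z' := fun B hB hBt => P'.le_cen_of_le_cen c ht ht1 hB hBt
  have hfixt' : ∀ B ∈ D, B ≤ cen t' → B ≤ cen z' := by
    intro B hB hBt
    have h1 : cj w⁻¹ B ≤ cen t := by
      refine (cj_mono hBt).trans (le_of_eq ?_)
      rw [cj_cen, ht'def]
      congr 1
      group
    have h2 : cj w⁻¹ B ≤ gen D (cen z) := (le_gen (c.conj_mem B hB w⁻¹) h1).trans hgz
    have h3 : B = cj w⁻¹ B := by
      conv_lhs => rw [← cj_cj_inv w B]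
      exact cj_eq_of_commute fun x hx => (hwc x (h2 hx)).symm
    exact hfixt B hB (h3.le.trans h1)
  have htH : t ∈ normalizer (H : Set G) := c.toSetup.mem_normalizer_gen ht hfixt
  have ht'H : t' ∈ normalizer (H : Set G) := c.toSetup.mem_normalizer_gen ht' hfixt'
  have hw2 : w * w = t' * t := by
    calc w * w = w * (t * w * t)⁻¹ := by rw [htw, inv_inv]
      _ = t' * t := by rw [ht'def, mul_inv_rev, mul_inv_rev, htinv]; group
  obtain ⟨i, hi⟩ : Odd (orderOf w) := hj ▸ (c.qprime.odd_of_ne_two c.q_ne_two).pow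
  have hwH : w ∈ normalizer (H : Set G) := by
    have e : w = (w * w) ^ (i + 1) := by
      rw [← sq, ← pow_mul, show 2 * (i + 1) = orderOf w + 1 by omega, pow_succ, pow_orderOf_eq_one,
        one_mul]
    rw [e, hw2]
    exact pow_mem (mul_mem ht'H htH) _
  have hfz' : f ≤ cen z' := hfixt f P.f_mem P.f_le
  have hHtop : H ≠ ⊤ := fun e => cen_ne_top (P'.noncentral c) (top_le_iff.1 (e.ge.trans gen_le))
  have hHw : gen D (cen z') ≤ gen D (cen w) := sSup_le fun B hB => le_gen hB.1
    (c.toSetup.pts_le_cen c.small hnab hsw hw P.f_mem (le_gen P.f_mem hfz') hHtop hfw hwH hB.1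
      (le_gen hB.1 hB.2))
  rw [hzw]
  exact (c.toSetup.special_gen_eq c.small P.f_mem hsw (P'.special c) hfw hfz'
    (commutator_mono hHw hHw (P'.special c).mem)).symm

/-- Either all problems share the group, or `der D (C(t))` lies in `O_q(G)`. -/
theorem gen_eq_or_single :
    (∀ z z' : G, ∀ f C f' C' : Subgroup G, Problem D t z f C → Problem D t z' f' C' →
      gen D (cen z') = gen D (cen z)) ∨ (Nab D ∧ der D (cen t) ≤ Cfsg.pCore q G) := by
  haveI := Fact.mk c.qprime
  by_cases hP : ∃ z f C, Problem D t z f C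
  swap
  · exact Or.inl fun z _ f C _ _ P _ => absurd ⟨z, f, C, P⟩ hP
  obtain ⟨z0, f0, C0, P0⟩ := hP
  by_cases hcross : ∃ z f C, Problem D t z f C ∧ ∃ k ∈ der D (C ⊔ cj t C), ∃ y ∈ der D (cen t),
      ⁅k, y⁆ ∉ Cfsg.pCore q G
  · obtain ⟨z1, f1, C1, P1, k, hk, y, hy, hw⟩ := hcross
    refine Or.inl fun z z' f C f' C' P P' => ?_
    rw [c.gen_eq_of_cross ht ht1 P1 P hk hy hw, c.gen_eq_of_cross ht ht1 P1 P' hk hy hw]
  push Not at hcross
  set Q := Cfsg.pCore q G with hQ
  set Y := der D (cen t) with hY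
  set W := gen D (cen t) with hW
  set π := QuotientGroup.mk' Q with hπ
  set G2 := (centralizer (π '' (Y : Set G))).comap π with hG2
  have hYn : cen t ≤ normalizer (Y : Set G) := le_normalizer.trans (c.normalizer_le_der (cen t))
  have hWn : cen t ≤ normalizer (W : Set G) := le_normalizer.trans (c.normalizer_le_gen (cen t))
  have hG2n : cen t ≤ normalizer (G2 : Set G) := by
    intro g hg
    rw [mem_normalizer_iff_cj]
    rintro _ ⟨x, hx, rfl⟩
    rw [hG2, mem_comap, mem_centralizer_iff]
    rintro _ ⟨y, hy, rfl⟩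
    have h1 := mem_centralizer_iff.1 (mem_comap.1 hx) (π (g⁻¹ * y * g))
      ⟨_, (mem_normalizer_iff''.1 (hYn hg) y).1 hy, rfl⟩
    show π y * π (g * x * g⁻¹) = π (g * x * g⁻¹) * π y
    calc π y * π (g * x * g⁻¹) = π g * (π (g⁻¹ * y * g) * π x) * (π g)⁻¹ := by
          simp only [map_mul, map_inv]; group
      _ = π g * (π x * π (g⁻¹ * y * g)) * (π g)⁻¹ := by rw [h1]
      _ = π (g * x * g⁻¹) * π y := by simp only [map_mul, map_inv]; group
  have hodd : Odd (Nat.card (gen D (cen t))) := c.small _ (c.cen_ne_top_of_invol ht ht1)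
  by_cases hH3 : G2 ⊔ W = ⊤
  · refine Or.inr ⟨P0.nab c, ?_⟩
    have hn : G2 ⊔ W ≤ normalizer ((Y ⊔ Q : Subgroup G) : Set G) := by
      refine sup_le (fun g hg => ?_) (fun g hg => ?_) <;>
        rw [mem_normalizer_iff_cj, cj, Subgroup.map_sup] <;>
        refine sup_le ?_ (le_sup_of_le_right
          (cj_eq_of_mem_normalizer (normalizer_eq_top Q ▸ mem_top g)).le)
      · rintro _ ⟨y, hy, rfl⟩
        show g * y * g⁻¹ ∈ Y ⊔ Q
        rw [show g * y * g⁻¹ = ⁅g, y⁆ * y by rw [commutatorElement_def]; group]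
        refine mul_mem (mem_sup_right ((QuotientGroup.eq_one_iff _).1 ?_)) (mem_sup_left hy)
        show π ⁅g, y⁆ = 1
        rw [map_commutatorElement, commutatorElement_eq_one_iff_mul_comm]
        exact (mem_centralizer_iff.1 (mem_comap.1 hg) (π y) ⟨y, hy, rfl⟩).symm
      · exact le_sup_of_le_left (cj_eq_of_mem_normalizer (hYn (gen_le hg))).le
    rw [hH3, top_le_iff] at hn
    have hnor : (Y ⊔ Q).Normal := normalizer_eq_top_iff.1 hn
    exact le_sup_left.trans (Cores.le_pCore hnor ((c.toSetup.der_isPGroup P0.f_mem P0.f_le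
      hodd).to_sup_of_normal_right' (Cores.isPGroup_pCore q G)
      (le_of_le_of_eq le_top (normalizer_eq_top Q).symm)))
  refine Or.inl fun z z' f C f' C' P P' => ?_
  set H := G2 ⊔ W with hH
  have htH : t ∈ normalizer (H : Set G) := by
    rw [mem_normalizer_iff_cj, hH, cj, Subgroup.map_sup]
    exact sup_le_sup (cj_eq_of_mem_normalizer (hG2n (mem_cen.2 rfl))).le
      (cj_eq_of_mem_normalizer (hWn (mem_cen.2 rfl))).le
  have hle : ∀ z f C, Problem D t z f C → C ⊔ cj t C ≤ H := by
    intro z f C P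
    obtain ⟨k, hk, hC⟩ := P.exists_k c
    have hkG : k ∈ G2 := by
      rw [hG2, mem_comap, mem_centralizer_iff]
      rintro _ ⟨y, hy, rfl⟩
      have h1 : π ⁅k, y⁆ = 1 := (QuotientGroup.eq_one_iff _).2 (hcross z f C P k hk y hy)
      rw [map_commutatorElement, commutatorElement_eq_one_iff_mul_comm] at h1
      exact h1.symm
    have hCH : C ≤ H := hC.le.trans
      (cj_le_of_mem (mem_sup_left hkG) ((le_gen P.f_mem P.f_le).trans le_sup_right))
    exact sup_le hCH ((cj_mono hCH).trans (cj_eq_of_mem_normalizer htH).le)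
  have h1 := c.toSetup.special_gen_le P.f_mem ((P.f_line).trans (hle z f C P)) (c.small H hH3)
    (der_mono (hle z f C P) P.z_mem) P.f_cen
  have h2 := gen_le_gen_of_le h1
  have hz' : z' ∈ der D (cen z) := commutator_mono h2 h2 (der_mono (hle z' f' C' P') P'.z_mem)
  exact (c.toSetup.special_gen_eq c.small P.f_mem (P.special c) (P'.special c) P.f_cen
    (P'.le_cen_of_le_cen c ht ht1 P.f_mem P.f_le) hz').symm

/-- There are no problems, apart from the case `der D (C(t)) ≤ O_q(G)`. -/
theorem no_problem_or_single :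
    (∀ z f C, ¬ Problem D t z f C) ∨ (Nab D ∧ der D (cen t) ≤ Cfsg.pCore q G) := by
  rcases c.gen_eq_or_single ht ht1 with hall | h
  swap
  · exact Or.inr h
  refine Or.inl fun z f C P => P.not_core ?_
  have hodd : Odd (Nat.card (gen D (cen z))) := c.small _ (cen_ne_top (P.noncentral c))
  set N := der D (cen z) ⊓ cen t with hN
  have hn : cen t ≤ normalizer (N : Set G) := by
    intro g hg
    have h1 : cj g (gen D (cen z)) = gen D (cen z) := by
      rw [c.cj_gen, cj_cen]
      exact hall _ _ _ _ _ _ P (P.conj c hg)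
    rw [mem_normalizer_iff_cj]
    refine le_inf ((cj_mono inf_le_left).trans ?_) ((cj_mono inf_le_right).trans (cj_eq_of_mem hg).le)
    rw [der, cj, map_commutator, ← cj, h1]
  exact le_coreO inf_le_right hn
    (hodd.of_dvd_nat (card_dvd_of_le (inf_le_left.trans der_le_gen))) ⟨(P.special c).mem, P.z_cen⟩

end Ctx

end Cfsg.Agent.FischerGen
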