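import Cfsg.Agent.Lib.FischerGen.Generic
import Cfsg.Agent.Lib.OddOrderTheorem.Basic

/-!
# Groups generated by order-`p` subgroups, any two generating an odd group of fixed type

* `Hyp p D`: the hypothesis, `Setup p q D`: with the prime `q` of the pair groups;
* `gen D H`, `der D H`: the subgroup generated by the members of `D` below `H` and its derived group;
* structure of `gen D H` when it has odd order.
-/

set_option autoImplicit false
set_option linter.style.haveILetI false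

open scoped commutatorElement

namespace Cfsg.Agent.FischerGen

open Subgroup

universe u

variable {G : Type u} [Group G]

/-- The conjugate `g A g⁻¹`. -/
abbrev cj (g : G) (A : Subgroup G) : Subgroup G := A.map (MulAut.conj g).toMonoidHom

/-- The centraliser of an element. -/
abbrev cen (g : G) : Subgroup G := centralizer ({g} : Set G)

theorem mem_cen {g x : G} : x ∈ cen g ↔ x * g = g * x := mem_centralizer_singleton_iff

theorem mem_cj {g x : G} {A : Subgroup G} : x ∈ cj g A ↔ g⁻¹ * x * g ∈ A := by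
  constructor
  · rintro ⟨y, hy, rfl⟩
    simpa [mul_assoc] using hy
  · exact fun h => ⟨_, h, by simp [mul_assoc]⟩

theorem conj_mem_cj {g x : G} {A : Subgroup G} (h : x ∈ A) : g * x * g⁻¹ ∈ cj g A :=
  mem_cj.2 (by simpa [mul_assoc] using h)

theorem cj_mul (g h : G) (A : Subgroup G) : cj g (cj h A) = cj (g * h) A := by
  ext x; simp [mem_cj, mul_assoc]

theorem cj_one (A : Subgroup G) : cj 1 A = A := by
  ext x; simp [mem_cj]

theorem cj_inv_cj (g : G) (A : Subgroup G) : cj g⁻¹ (cj g A) = A := by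
  rw [cj_mul, inv_mul_cancel, cj_one]

theorem cj_cj_inv (g : G) (A : Subgroup G) : cj g (cj g⁻¹ A) = A := by
  rw [cj_mul, mul_inv_cancel, cj_one]

theorem cj_mono {g : G} {A B : Subgroup G} (h : A ≤ B) : cj g A ≤ cj g B := map_mono h

theorem card_cj (g : G) (A : Subgroup G) : Nat.card (cj g A) = Nat.card A :=
  Subgroup.card_map_of_injective (MulAut.conj g).injective

theorem cj_eq_of_mem {g : G} {A : Subgroup G} (h : g ∈ A) : cj g A = A := by
  ext x
  rw [mem_cj]
  exact ⟨fun hx => by simpa [mul_assoc] using A.mul_mem (A.mul_mem h hx) (A.inv_mem h),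
    fun hx => A.mul_mem (A.mul_mem (A.inv_mem h) hx) h⟩

theorem cj_le_of_mem {g : G} {A H : Subgroup G} (hg : g ∈ H) (hA : A ≤ H) : cj g A ≤ H :=
  (cj_mono hA).trans (cj_eq_of_mem hg).le

theorem cj_eq_of_commute {g : G} {A : Subgroup G} (h : ∀ x ∈ A, g * x = x * g) : cj g A = A := by
  ext x
  rw [mem_cj]
  constructor
  · intro hx
    have := h _ hx
    rw [← mul_assoc, ← mul_assoc, mul_inv_cancel, one_mul] at this
    have e : x = g⁻¹ * x * g := mul_right_cancel this
    exact e ▸ hx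
  · intro hx
    rwa [mul_assoc, ← h x hx, inv_mul_cancel_left]

theorem mem_normalizer_iff_cj [Finite G] {g : G} {H : Subgroup G} :
    g ∈ normalizer (H : Set G) ↔ cj g H ≤ H := by
  constructor
  · intro h x hx
    have := (mem_normalizer_iff.1 h (g⁻¹ * x * g)).1 (mem_cj.1 hx)
    simpa [mul_assoc] using this
  · intro h
    have e : cj g H = H := eq_of_le_of_card_ge h (card_cj g H).ge
    rw [mem_normalizer_iff]
    intro x
    constructor
    · exact fun hx => h (conj_mem_cj hx)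
    · intro hx
      rw [← e, mem_cj] at hx
      simpa [mul_assoc] using hx

theorem cj_eq_of_mem_normalizer {g : G} {H : Subgroup G} (h : g ∈ normalizer (H : Set G)) :
    cj g H = H := by
  ext x
  rw [mem_cj, mem_normalizer_iff.1 h (g⁻¹ * x * g)]
  simp [mul_assoc]

/-- The subgroup generated by the members of `D` below `H`. -/
def gen (D : Set (Subgroup G)) (H : Subgroup G) : Subgroup G := sSup {A | A ∈ D ∧ A ≤ H}

/-- The derived subgroup of `gen D H`. -/
abbrev der (D : Set (Subgroup G)) (H : Subgroup G) : Subgroup G := ⁅gen D H, gen D H⁆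

theorem gen_le {D : Set (Subgroup G)} {H : Subgroup G} : gen D H ≤ H := sSup_le fun _ h => h.2

theorem le_gen {D : Set (Subgroup G)} {H A : Subgroup G} (hA : A ∈ D) (h : A ≤ H) : A ≤ gen D H :=
  le_sSup ⟨hA, h⟩

theorem gen_mono {D : Set (Subgroup G)} {H K : Subgroup G} (h : H ≤ K) : gen D H ≤ gen D K :=
  sSup_le_sSup fun _ hA => ⟨hA.1, hA.2.trans h⟩

theorem gen_le_gen_of_le {D : Set (Subgroup G)} {H K : Subgroup G} (h : gen D H ≤ K) :
    gen D H ≤ gen D K :=
  sSup_le fun _ hA => le_gen hA.1 ((le_gen hA.1 hA.2).trans h)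

theorem der_le_gen {D : Set (Subgroup G)} {H : Subgroup G} : der D H ≤ gen D H :=
  commutator_le_self _

theorem gen_le_normalizer_der {D : Set (Subgroup G)} {H : Subgroup G} :
    gen D H ≤ normalizer (der D H : Set G) :=
  normalizer_commutator_ge_right _ _

/-- The hypothesis. -/
structure Hyp (p : ℕ) (D : Set (Subgroup G)) : Prop where
  prime : p.Prime
  ne_two : p ≠ 2
  card : ∀ A ∈ D, Nat.card A = p
  conj_mem : ∀ A ∈ D, ∀ g : G, cj g A ∈ D
  generates : sSup D = ⊤
  nontriv : ∃ A ∈ D, ∃ B ∈ D, A ≠ B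
  odd : ∀ A ∈ D, ∀ B ∈ D, A ≠ B → Odd (Nat.card (A ⊔ B : Subgroup G))
  card_eq : ∀ A ∈ D, ∀ B ∈ D, A ≠ B → ∀ C ∈ D, ∀ E ∈ D, C ≠ E →
    Nat.card (A ⊔ B : Subgroup G) = Nat.card (C ⊔ E : Subgroup G)
  noncomm : ∀ A ∈ D, ∀ B ∈ D, A ≠ B → ∃ a ∈ A, ∃ b ∈ B, a * b ≠ b * a
  ab_eq : ∀ A ∈ D, ∀ B ∈ D, A ≠ B → ∀ C ∈ D, ∀ E ∈ D, C ≠ E →
    IsMulCommutative ↥⁅A ⊔ B, A ⊔ B⁆ → IsMulCommutative ↥⁅C ⊔ E, C ⊔ E⁆

namespace Hyp

variable {p : ℕ} {D : Set (Subgroup G)}

theorem gen_top (h : Hyp p D) : gen D ⊤ = ⊤ :=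
  le_antisymm le_top (h.generates.ge.trans (sSup_le_sSup fun _ hA => ⟨hA, le_top⟩))

theorem normalizer_le_gen [Finite G] (h : Hyp p D) (H : Subgroup G) :
    normalizer (H : Set G) ≤ normalizer (gen D H : Set G) := by
  intro g hg
  rw [mem_normalizer_iff_cj]
  refine map_le_iff_le_comap.2 (sSup_le fun A hA => map_le_iff_le_comap.1 ?_)
  exact le_gen (h.conj_mem A hA.1 g) ((cj_mono hA.2).trans (cj_eq_of_mem_normalizer hg).le)

theorem normalizer_le_der [Finite G] (h : Hyp p D) (H : Subgroup G) :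
    normalizer (H : Set G) ≤ normalizer (der D H : Set G) := by
  intro g hg
  rw [mem_normalizer_iff_cj, cj, map_commutator, ← cj, cj_eq_of_mem_normalizer (h.normalizer_le_gen H hg)]

theorem exists_gen (h : Hyp p D) [Finite G] {A : Subgroup G} (hA : A ∈ D) :
    ∃ a, A = zpowers a ∧ orderOf a = p := by
  haveI := Fact.mk h.prime
  haveI : IsCyclic A := isCyclic_of_prime_card (h.card A hA)
  obtain ⟨⟨a, ha⟩, hgen⟩ := IsCyclic.exists_generator (α := A)
  have e : zpowers a = A := by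
    refine le_antisymm (zpowers_le.2 ha) fun x hx => ?_
    obtain ⟨i, hi⟩ := mem_zpowers_iff.1 (hgen ⟨x, hx⟩)
    exact mem_zpowers_iff.2 ⟨i, by simpa using congrArg Subtype.val hi⟩
  exact ⟨a, e.symm, by rw [← Nat.card_zpowers, e, h.card A hA]⟩

theorem cj_zpowers (g a : G) : cj g (zpowers a) = zpowers (g * a * g⁻¹) := by
  rw [cj, MonoidHom.map_zpowers]; simp

theorem isPGroup (h : Hyp p D) [Finite G] {A : Subgroup G} (hA : A ∈ D) : IsPGroup p A :=
  IsPGroup.of_card (n := 1) (by rw [pow_one, h.card A hA])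

theorem eq_of_le (h : Hyp p D) [Finite G] {A B : Subgroup G} (hA : A ∈ D) (hB : B ∈ D)
    (hle : A ≤ B) : A = B :=
  eq_of_le_of_card_ge hle (by rw [h.card A hA, h.card B hB])

theorem inf_eq_bot (h : Hyp p D) [Finite G] {A : Subgroup G} (hA : A ∈ D) {K : Subgroup G}
    (hn : ¬ A ≤ K) : A ⊓ K = ⊥ := by
  have hd : Nat.card (A ⊓ K : Subgroup G) ∣ p := h.card A hA ▸ card_dvd_of_le inf_le_left
  rcases (Nat.dvd_prime h.prime).1 hd with e | e
  · exact eq_bot_of_card_eq _ e
  · exact absurd (inf_eq_left.1 (eq_of_le_of_card_ge inf_le_left (by rw [e, h.card A hA]))) hn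

/-- An element of order `p` normalising a group of order `p` centralises it. -/
theorem _root_.Cfsg.Agent.FischerGen.commute_of_normalizes_prime {a b : G} {p : ℕ} [Fact p.Prime]
    (ha : orderOf a = p) (hb : b ^ p = 1) (hn : b * a * b⁻¹ ∈ zpowers a) : Commute b a := by
  haveI : NeZero p := ⟨(Fact.out : p.Prime).ne_zero⟩
  obtain ⟨i, hi⟩ := mem_zpowers_iff.1 hn
  have key : ∀ n : ℕ, b ^ n * a * (b ^ n)⁻¹ = a ^ i ^ n := by
    intro n
    induction n with
    | zero => simp
    | succ n ih =>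
      rw [pow_succ, pow_succ', mul_inv_rev,
        show b ^ n * b * a * (b⁻¹ * (b ^ n)⁻¹) = b ^ n * (b * a * b⁻¹) * (b ^ n)⁻¹ by group,
        ← hi, ← conj_zpow, ih, ← zpow_mul, mul_comm]
  have h1 := key p
  rw [hb, inv_one, mul_one, one_mul] at h1
  have h2 : a ^ (i ^ p : ℤ) = a ^ i := by
    rw [zpow_eq_zpow_iff_modEq, ha, ← ZMod.intCast_eq_intCast_iff]
    push_cast
    exact ZMod.pow_card _
  rw [h2, hi] at h1
  exact (mul_inv_eq_iff_eq_mul.1 h1.symm)

/-- Two members in a common `p`-subgroup are equal. -/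
theorem eq_of_le_pGroup [Finite G] (h : Hyp p D) {A B : Subgroup G} (hA : A ∈ D) (hB : B ∈ D)
    {P : Subgroup G} (hP : IsPGroup p P) (hAP : A ≤ P) (hBP : B ≤ P) : A = B := by
  by_contra hne
  haveI := Fact.mk h.prime
  have hF : IsPGroup p (A ⊔ B : Subgroup G) := hP.to_le (sup_le hAP hBP)
  set F := A ⊔ B
  -- a maximal subgroup of `F` above `A`
  obtain ⟨M, ⟨hAM, hMF⟩, hmax⟩ := wellFounded_gt.has_min {M : Subgroup G | A ≤ M ∧ M < F}
    ⟨A, le_rfl, lt_of_le_of_ne le_sup_left fun e => hne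
      ((h.eq_of_le hB hA (le_of_le_of_eq le_sup_right e.symm))).symm⟩
  haveI : Group.IsNilpotent F := hF.isNilpotent
  have hlt : M.subgroupOf F < normalizer ((M.subgroupOf F : Subgroup F) : Set F) := by
    refine Group.normalizerCondition_of_isNilpotent _ ?_
    exact lt_top_iff_ne_top.2 fun e => hMF.not_ge (subgroupOf_eq_top.1 e)
  obtain ⟨x, hx, hxM⟩ := SetLike.exists_of_lt hlt
  have hMn : F ≤ normalizer (M : Set G) := by
    by_contra hn
    refine hmax (normalizer (M : Set G) ⊓ F) ⟨hAM.trans (le_inf le_normalizer hMF.le), ?_⟩ ?_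
    · exact lt_of_le_of_ne inf_le_right fun e => hn (inf_eq_right.1 e)
    · refine lt_of_le_of_ne (le_inf le_normalizer hMF.le) fun e => hxM ?_
      have hxN : (x : G) ∈ normalizer (M : Set G) := by
        rw [mem_normalizer_iff]
        intro y
        constructor
        · intro hy
          have h1 := (mem_normalizer_iff.1 hx ⟨y, hMF.le hy⟩).1 (mem_subgroupOf.2 hy)
          simpa [mem_subgroupOf] using h1
        · intro hy
          have hyF : y ∈ F := by
            have h1 := F.mul_mem (F.mul_mem (F.inv_mem x.2) (hMF.le hy)) x.2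
            simpa [mul_assoc] using h1
          exact mem_subgroupOf.1 ((mem_normalizer_iff.1 hx ⟨y, hyF⟩).2 (by simpa [mem_subgroupOf] using hy))
      exact mem_subgroupOf.2 (e ▸ ⟨hxN, x.2⟩)
  obtain ⟨b, rfl, hb⟩ := h.exists_gen hB
  have hbM : b ∈ normalizer (M : Set G) := hMn (le_sup_right (a := A) (mem_zpowers b))
  by_cases hbA : cj b A = A
  · -- `b` normalises `A`, hence centralises it
    obtain ⟨a, rfl, ha⟩ := h.exists_gen hA
    obtain ⟨x, hx, y, hy, hxy⟩ := h.noncomm _ hA _ hB hne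
    obtain ⟨i, rfl⟩ := mem_zpowers_iff.1 hx
    obtain ⟨j, rfl⟩ := mem_zpowers_iff.1 hy
    exact hxy (Commute.zpow_zpow (commute_of_normalizes_prime ha (by rw [← hb, pow_orderOf_eq_one])
      (hbA ▸ conj_mem_cj (mem_zpowers a))).symm i j).eq
  · -- `A` and its conjugate generate a proper subgroup of `F` of the same order
    have hle : A ⊔ cj b A ≤ M :=
      sup_le hAM ((cj_mono hAM).trans (cj_eq_of_mem_normalizer hbM).le)
    have hcard := h.card_eq _ hA _ hB hne _ hA _ (h.conj_mem A hA b) (Ne.symm hbA)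
    have hMF' : (A ⊔ cj b A : Subgroup G) < F := lt_of_le_of_lt hle hMF
    exact hMF'.ne (eq_of_le_of_card_ge hMF'.le hcard.le)

theorem ne_bot (h : Hyp p D) [Finite G] {A : Subgroup G} (hA : A ∈ D) : A ≠ ⊥ := fun e => by
  have := h.card A hA
  rw [e, card_bot] at this
  exact h.prime.ne_one this.symm

/-- Distinct members are conjugate in the group they generate. -/
theorem exists_conj [Finite G] (h : Hyp p D) {A B : Subgroup G} (hA : A ∈ D) (hB : B ∈ D)
    (hne : A ≠ B) : ∃ f ∈ A ⊔ B, B = cj f A := by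
  haveI := Fact.mk h.prime
  set F := A ⊔ B
  have hA' : IsPGroup p (A.subgroupOf F) :=
    IsPGroup.of_equiv (h.isPGroup hA) (subgroupOfEquivOfLe le_sup_left).symm
  have hB' : IsPGroup p (B.subgroupOf F) :=
    IsPGroup.of_equiv (h.isPGroup hB) (subgroupOfEquivOfLe le_sup_right).symm
  obtain ⟨P, hP⟩ := hA'.exists_le_sylow
  obtain ⟨Q, hQ⟩ := hB'.exists_le_sylow
  obtain ⟨f, hf⟩ := MulAction.exists_smul_eq F P Q
  refine ⟨f, f.2, (h.eq_of_le_pGroup hB (h.conj_mem A hA f) (Q.isPGroup'.map F.subtype) ?_ ?_)⟩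
  · intro x hx
    exact ⟨⟨x, le_sup_right (a := A) hx⟩, hQ (mem_subgroupOf.2 hx), rfl⟩
  · rintro _ ⟨x, hx, rfl⟩
    refine ⟨f * ⟨x, le_sup_left (b := B) hx⟩ * f⁻¹, ?_, by simp⟩
    rw [← hf]
    exact ⟨⟨x, le_sup_left (b := B) hx⟩, hP (mem_subgroupOf.2 hx), rfl⟩

theorem eq_of_cj_eq [Finite G] (h : Hyp p D) {A B : Subgroup G} (hA : A ∈ D) (hB : B ∈ D)
    {a : G} (ha : A = zpowers a) (hfix : cj a B = B) : A = B :=
  h.eq_of_le_pGroup hA hB ((h.isPGroup hA).to_sup_of_normal_right' (h.isPGroup hB)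
    (ha ▸ zpowers_le.2 (mem_normalizer_iff_cj.2 hfix.le))) le_sup_left le_sup_right

theorem pair_eq [Finite G] (h : Hyp p D) {A B C E : Subgroup G} (hA : A ∈ D) (hB : B ∈ D)
    (hne : A ≠ B) (hC : C ∈ D) (hE : E ∈ D) (hne' : C ≠ E) (hC' : C ≤ A ⊔ B) (hE' : E ≤ A ⊔ B) :
    C ⊔ E = A ⊔ B :=
  eq_of_le_of_card_ge (sup_le hC' hE') (h.card_eq _ hA _ hB hne _ hC _ hE hne').le

theorem gen_pair (h : Hyp p D) {A B : Subgroup G} (hA : A ∈ D) (hB : B ∈ D) :
    gen D (A ⊔ B) = A ⊔ B :=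
  le_antisymm gen_le (sup_le (le_gen hA le_sup_left) (le_gen hB le_sup_right))

/-! ### The group `gen D H` of odd order -/

variable [Finite G] (h : Hyp p D) {H A : Subgroup G} (hA : A ∈ D) (hAH : A ≤ H)
  (hodd : Odd (Nat.card (gen D H)))
include h hA hAH hodd

theorem not_le_der : ¬ A ≤ der D H := by
  intro hle
  haveI : Group.IsSolvable (gen D H) := OddOrderTheorem.solvable hodd
  refine (Solvable.commutator_lt_of_solvable
    (ne_bot_of_le_ne_bot (h.ne_bot hA) (le_gen hA hAH))).not_ge (sSup_le fun B hB => ?_)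
  by_cases hne : A = B
  · exact hne ▸ hle
  obtain ⟨f, hf, rfl⟩ := h.exists_conj hA hB.1 hne
  exact (cj_mono hle).trans (cj_eq_of_mem_normalizer
    (gen_le_normalizer_der (sup_le (le_gen hA hAH) (le_gen hB.1 hB.2) hf))).le

theorem inf_der : A ⊓ der D H = ⊥ := h.inf_eq_bot hA (h.not_le_der hA hAH hodd)

theorem gen_eq_sup : gen D H = A ⊔ der D H := by
  refine le_antisymm (sSup_le fun B hB => ?_) (sup_le (le_gen hA hAH) der_le_gen)
  by_cases hne : A = B
  · exact hne ▸ le_sup_left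
  obtain ⟨f, hf, rfl⟩ := h.exists_conj hA hB.1 hne
  rintro _ ⟨x, hx, rfl⟩
  show f * x * f⁻¹ ∈ _
  rw [show f * x * f⁻¹ = ⁅f, x⁆ * x by rw [commutatorElement_def]; group]
  exact mul_mem (mem_sup_right (commutator_mem_commutator
    (sup_le (le_gen hA hAH) (le_gen hB.1 hB.2) hf) (le_gen hA hAH hx))) (mem_sup_left hx)

/-- Every element of `gen D H` is `r * x` with `r` in the derived group and `x ∈ A`. -/
theorem exists_mul {g : G} (hg : g ∈ gen D H) : ∃ r ∈ der D H, ∃ x ∈ A, g = r * x := by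
  have hg' : g ∈ ((der D H ⊔ A : Subgroup G) : Set G) := by
    rw [sup_comm, ← h.gen_eq_sup hA hAH hodd]; exact hg
  rw [coe_mul_of_right_le_normalizer_left _ _ ((le_gen hA hAH).trans gen_le_normalizer_der)] at hg'
  obtain ⟨r, hr, x, hx, rfl⟩ := hg'
  exact ⟨r, hr, x, hx, rfl⟩

theorem exists_point {B : Subgroup G} (hB : B ∈ D) (hBH : B ≤ H) :
    ∃ r ∈ der D H, B = cj r A := by
  by_cases hne : A = B
  · exact ⟨1, one_mem _, by rw [cj_one, hne]⟩
  obtain ⟨f, hf, rfl⟩ := h.exists_conj hA hB hne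
  obtain ⟨r, hr, x, hx, rfl⟩ := h.exists_mul hA hAH hodd (sup_le (le_gen hA hAH) (le_gen hB hBH) hf)
  exact ⟨r, hr, by rw [← cj_mul, cj_eq_of_mem hx]⟩

theorem point_le {r : G} (hr : r ∈ der D H) : cj r A ≤ H :=
  (cj_le_of_mem (der_le_gen hr) (le_gen hA hAH)).trans gen_le

theorem commute_of_cj_eq {r : G} (hr : r ∈ der D H) (hfix : cj r A = A) {x : G} (hx : x ∈ A) :
    r * x = x * r := by
  have h1 : ⁅r, x⁆ ∈ A ⊓ der D H :=
    ⟨A.mul_mem (hfix ▸ conj_mem_cj hx) (A.inv_mem hx),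
      commutator_mem_commutator (der_le_gen hr) (le_gen hA hAH hx)⟩
  rw [h.inf_der hA hAH hodd, mem_bot] at h1
  exact commutatorElement_eq_one_iff_mul_comm.1 h1

theorem card_gen : Nat.card (gen D H) = Nat.card (der D H) * p := by
  rw [← h.card A hA, ← Nat.card_prod]
  refine (Nat.card_congr (Equiv.ofBijective
    (fun z : der D H × A => (⟨(z.1 : G) * z.2, mul_mem (der_le_gen z.1.2) (le_gen hA hAH z.2.2)⟩ :
      gen D H)) ⟨?_, ?_⟩)).symm
  · rintro ⟨r, x⟩ ⟨r', x'⟩ e
    have e' : (r : G) * x = r' * x' := congrArg Subtype.val e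
    have h1 : (r' : G)⁻¹ * r = x' * (x : G)⁻¹ := by
      rw [eq_mul_inv_iff_mul_eq, mul_assoc, e', inv_mul_cancel_left]
    have h2 : (r' : G)⁻¹ * r ∈ A ⊓ der D H :=
      ⟨h1 ▸ A.mul_mem x'.2 (A.inv_mem x.2), (der D H).mul_mem ((der D H).inv_mem r'.2) r.2⟩
    rw [h.inf_der hA hAH hodd, mem_bot] at h2
    have er : (r : G) = r' := (inv_mul_eq_one.1 h2).symm
    rw [h2] at h1
    exact Prod.ext (Subtype.ext er) (Subtype.ext (mul_inv_eq_one.1 h1.symm).symm)
  · rintro ⟨g, hg⟩
    obtain ⟨r, hr, x, hx, rfl⟩ := h.exists_mul hA hAH hodd hg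
    exact ⟨(⟨r, hr⟩, ⟨x, hx⟩), rfl⟩

/-- The derived group is generated by the `⁅r, a⁆`. -/
theorem der_le_closure {a : G} (ha : A = zpowers a) :
    der D H ≤ closure {x | ∃ r ∈ der D H, ⁅r, a⁆ = x} := by
  set S := closure {x | ∃ r ∈ der D H, ⁅r, a⁆ = x}
  have haG : a ∈ gen D H := le_gen hA hAH (ha ▸ mem_zpowers a)
  have hSa : a ∈ normalizer (S : Set G) := by
    rw [mem_normalizer_iff_cj, cj, MonoidHom.map_closure, closure_le]
    rintro _ ⟨_, ⟨r, hr, rfl⟩, rfl⟩
    refine subset_closure ⟨a * r * a⁻¹, (mem_normalizer_iff.1 (gen_le_normalizer_der haG) r).1 hr, ?_⟩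
    simp only [MulEquiv.coe_toMonoidHom, MulAut.conj_apply, commutatorElement_def]
    group
  have hle : gen D H ≤ zpowers a ⊔ S := by
    refine sSup_le fun B hB => ?_
    obtain ⟨r, hr, rfl⟩ := h.exists_point hA hAH hodd hB.1 hB.2
    rw [ha, cj_zpowers, zpowers_le, show r * a * r⁻¹ = ⁅r, a⁆ * a by
      rw [commutatorElement_def]; group]
    exact mul_mem (mem_sup_right (subset_closure ⟨r, hr, rfl⟩)) (mem_sup_left (mem_zpowers a))
  exact (commutator_mono hle hle).trans (commutator_zpowers_sup_le hSa)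

omit hA hAH hodd in
theorem odd_pair {A B : Subgroup G} (hA : A ∈ D) (hB : B ∈ D) (hne : A ≠ B) :
    Odd (Nat.card (gen D (A ⊔ B))) := by
  rw [h.gen_pair hA hB]; exact h.odd A hA B hB hne

end Hyp

/-- The hypothesis together with the prime of the pair groups. -/
structure Setup (p q : ℕ) (D : Set (Subgroup G)) : Prop extends Hyp p D where
  qprime : q.Prime
  q_ne_p : q ≠ p
  q_ne_two : q ≠ 2
  isQ : ∀ A ∈ D, ∀ B ∈ D, A ≠ B → IsPGroup q ↥⁅A ⊔ B, A ⊔ B⁆

namespace Hyp

variable {p : ℕ} {D : Set (Subgroup G)} [Finite G]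

/-- The prime of the pair groups exists. -/
theorem exists_setup (h : Hyp p D) : ∃ q, Setup p q D := by
  haveI := Fact.mk h.prime
  obtain ⟨A, hA, B, hB, hne⟩ := h.nontriv
  obtain ⟨a, rfl, ha⟩ := h.exists_gen hA
  set F := zpowers a ⊔ B with hFdef
  set K := ⁅F, F⁆ with hK
  have hgenF : gen D F = F := h.gen_pair hA hB
  have hoddF : Odd (Nat.card (gen D F)) := hgenF.symm ▸ h.odd _ hA _ hB hne
  have hderF : der D F = K := by rw [hK, der, hgenF]
  have haF : a ∈ F := le_sup_left (b := B) (mem_zpowers a)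
  have hFK : F ≤ normalizer (K : Set G) := normalizer_commutator_ge_right _ _
  have hinf : zpowers a ⊓ K = ⊥ := hderF ▸ h.inf_der hA le_sup_left hoddF
  have hKcomm : ∀ x ∈ K, cj x (zpowers a) = zpowers a → x * a = a * x := fun x hx hfix =>
    h.commute_of_cj_eq hA le_sup_left hoddF (hderF.symm ▸ hx) hfix (mem_zpowers a)
  -- proper `a`-invariant subgroups of `K` are centralised by `a`
  have hf3 : ∀ N ≤ K, N ≠ K → a ∈ normalizer (N : Set G) → ∀ x ∈ N, x * a = a * x := by
    intro N hNK hNne haN x hx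
    by_contra hxa
    have hne' : zpowers a ≠ cj x (zpowers a) := fun e => hxa (hKcomm x (hNK hx) e.symm)
    have hxF : x ∈ F := commutator_le_self F (hNK hx)
    have hle : zpowers a ⊔ cj x (zpowers a) ≤ zpowers a ⊔ N :=
      sup_le le_sup_left (cj_le_of_mem (mem_sup_right hx) le_sup_left)
    have heq := h.pair_eq hA hB hne hA (h.conj_mem _ hA x) hne' le_sup_left
      (cj_le_of_mem hxF le_sup_left)
    refine hNne (le_antisymm hNK ?_)
    rw [hK, hFdef, ← heq]
    exact (commutator_mono hle hle).trans (commutator_zpowers_sup_le haN)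
  haveI : Group.IsSolvable F := OddOrderTheorem.solvable (h.odd _ hA _ hB hne)
  haveI : Group.IsSolvable K := Solvable.isSolvable_of_le (commutator_le_self F)
  have hK0 : K ≠ ⊥ := fun e => by
    obtain ⟨x, hx, y, hy, hxy⟩ := h.noncomm _ hA _ hB hne
    have := commutator_mem_commutator (le_sup_left (b := B) hx) (le_sup_right (a := zpowers a) hy)
    rw [← hFdef, ← hK, e, mem_bot] at this
    exact hxy (commutatorElement_eq_one_iff_mul_comm.1 this)
  set C := K ⊓ cen a with hC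
  have hK'C : ⁅K, K⁆ ≤ C := by
    intro x hx
    refine ⟨commutator_le_self K hx, mem_cen.2 (hf3 _ (commutator_le_self K)
      (Solvable.commutator_lt_of_solvable hK0).ne ?_ x hx)⟩
    rw [mem_normalizer_iff_cj, cj, map_commutator, ← cj, cj_eq_of_mem_normalizer (hFK haF)]
  have hCK : ∀ c ∈ C, ∀ r ∈ K, r⁻¹ * c * r ∈ C := by
    intro c hc r hr
    rw [show r⁻¹ * c * r = ⁅r⁻¹, c⁆ * c by rw [commutatorElement_def]; group]
    exact mul_mem (hK'C (commutator_mem_commutator (inv_mem hr) hc.1)) hc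
  -- `C` is central in `F`
  have hCF : ∀ c ∈ C, ∀ f ∈ F, c * f = f * c := by
    intro c hc f hf
    have h1 : F ≤ cen c := by
      rw [← hgenF]
      refine sSup_le fun E hE => ?_
      obtain ⟨r, hr, rfl⟩ := h.exists_point hA le_sup_left hoddF hE.1 hE.2
      rw [cj_zpowers, zpowers_le, mem_cen]
      have h2 := mem_cen.1 (hCK c hc r (hderF ▸ hr)).2
      calc r * a * r⁻¹ * c = r * (a * (r⁻¹ * c * r)) * r⁻¹ := by group
        _ = r * (r⁻¹ * c * r * a) * r⁻¹ := by rw [h2]
        _ = c * (r * a * r⁻¹) := by group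
    exact (mem_cen.1 (h1 hf)).symm
  haveI : Group.IsNilpotent K := by
    refine _root_.Subgroup.isNilpotent_of_ker_le_center (Abelianization.of (G := K)) fun x hx => ?_
    rw [Abelianization.ker_of] at hx
    rw [mem_center_iff]
    intro y
    have hxC : (x : G) ∈ C := hK'C (by
      rw [← Subgroup.map_subtype_commutator]; exact ⟨x, hx, rfl⟩)
    exact Subtype.ext (hCF x hxC y (commutator_le_self F y.2)).symm
  -- `K` is a group of prime power order
  obtain ⟨r, hr, hKr⟩ : ∃ r : ℕ, r.Prime ∧ IsPGroup r K := by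
    by_contra hnot
    push Not at hnot
    have hKC : C.subgroupOf K = ⊤ := by
      rw [← index_eq_one]
      by_contra hidx
      obtain ⟨r, hr, hrd⟩ := Nat.exists_prime_and_dvd hidx
      haveI := Fact.mk hr
      obtain ⟨P⟩ : Nonempty (Sylow r K) := inferInstance
      have hnil := (Group.isNilpotent_of_finite_tfae (G := K)).out 0 3
      haveI : (P : Subgroup K).Normal := hnil.1 ‹_› r inferInstance P
      haveI := P.characteristic_of_normal ‹_›
      have hPC : (P : Subgroup K) ≤ C.subgroupOf K := by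
        intro x hx
        refine mem_subgroupOf.2 ⟨x.2, mem_cen.2 (hf3 ((P : Subgroup K).map K.subtype)
          (map_subtype_le _) ?_ ?_ x ⟨x, hx, rfl⟩)⟩
        · intro e
          refine hnot r hr ?_
          rw [← e]
          exact P.isPGroup'.map _
        · rw [mem_normalizer_iff_cj]
          rintro _ ⟨_, ⟨y, hy, rfl⟩, rfl⟩
          have hmem : a * y * a⁻¹ ∈ K := (mem_normalizer_iff.1 (hFK haF) y).1 y.2
          refine ⟨⟨_, hmem⟩, ?_, rfl⟩
          let e : K ≃* K :=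
            { toFun := fun z => ⟨a * z * a⁻¹, (mem_normalizer_iff.1 (hFK haF) z).1 z.2⟩
              invFun := fun z => ⟨a⁻¹ * z * a, (mem_normalizer_iff''.1 (hFK haF) z).1 z.2⟩
              left_inv := fun z => Subtype.ext (by simp [mul_assoc])
              right_inv := fun z => Subtype.ext (by simp [mul_assoc])
              map_mul' := fun z w => Subtype.ext (by simp [mul_assoc]) }
          have := mem_map_of_mem e.toMonoidHom hy
          rwa [Subgroup.characteristic_iff_map_eq.1 inferInstance e] at this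
      exact P.not_dvd_index (hrd.trans (index_dvd_of_le hPC))
    rw [subgroupOf_eq_top] at hKC
    obtain ⟨f, hf, hfB⟩ := h.exists_conj hA hB hne
    obtain ⟨r', hr', x, hx, rfl⟩ := h.exists_mul hA le_sup_left hoddF (hgenF.ge hf)
    refine hne ?_
    rw [hfB, ← cj_mul, cj_eq_of_mem hx, cj_zpowers, show r' * a * r'⁻¹ = a by
      rw [mem_cen.1 (hKC (hderF ▸ hr')).2, mul_inv_cancel_right]]
  haveI := Fact.mk hr
  have hrdvd : r ∣ Nat.card K := by
    obtain ⟨n, hn⟩ := (IsPGroup.iff_card).1 hKr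
    have h1 : 1 < Nat.card K := (one_lt_card_iff_ne_bot K).2 hK0
    rw [hn]
    exact dvd_pow_self r fun e => by rw [hn, e, pow_zero] at h1; exact lt_irrefl 1 h1
  have hrp : r ≠ p := by
    rintro rfl
    refine hne (h.eq_of_le_pGroup hA hB (P := zpowers a ⊔ K)
      ((h.isPGroup hA).to_sup_of_normal_right' hKr (zpowers_le.2 (hFK haF))) le_sup_left ?_)
    calc B ≤ gen D F := le_gen hB le_sup_right
      _ = zpowers a ⊔ K := by rw [h.gen_eq_sup hA le_sup_left hoddF, hderF]
  have hr2 : r ≠ 2 := by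
    rintro rfl
    have h2 : 2 ∣ Nat.card F := hrdvd.trans (card_dvd_of_le (commutator_le_self F))
    exact (Nat.not_even_iff_odd.2 (h.odd _ hA _ hB hne)) (even_iff_two_dvd.2 h2)
  refine ⟨r, { h with qprime := hr, q_ne_p := hrp, q_ne_two := hr2, isQ := ?_ }⟩
  intro A' hA' B' hB' hne'
  obtain ⟨n, hn⟩ := (IsPGroup.iff_card).1 hKr
  refine IsPGroup.of_card (n := n) (Nat.eq_of_mul_eq_mul_right h.prime.pos ?_)
  have h1 := h.card_gen hA' le_sup_left (h.odd_pair hA' hB' hne')
  rw [der, h.gen_pair hA' hB'] at h1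
  have h2 := h.card_gen hA le_sup_left hoddF
  rw [hderF, hgenF] at h2
  rw [← h1, ← hn, ← h2]
  exact (h.card_eq _ hA _ hB hne _ hA' _ hB' hne').symm

end Hyp

end Cfsg.Agent.FischerGen
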