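import Cfsg.Agent.Lib.FischerGen.Setup

/-!
# Structure of `gen D H` of odd order

* `der_isPGroup`: its derived group is a `q`-group;
* `der_comm` (nonabelian pair groups): that group has class at most two, its commutators are central;
* `fixed_mem_centralizer`: elements of the derived group commuting with a member are central.
-/

set_option autoImplicit false
set_option linter.style.haveILetI false

open scoped commutatorElement

namespace Cfsg.Agent.FischerGen

open Subgroup

universe u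

variable {G : Type u} [Group G]

/-- The pair groups have nonabelian derived groups. -/
def Nab (D : Set (Subgroup G)) : Prop :=
  ∀ A ∈ D, ∀ B ∈ D, A ≠ B → ¬ IsMulCommutative ↥⁅A ⊔ B, A ⊔ B⁆

namespace Setup

variable {p q : ℕ} {D : Set (Subgroup G)} [Finite G]

theorem ab_or_nab (h : Setup p q D) :
    (∀ A ∈ D, ∀ B ∈ D, A ≠ B → IsMulCommutative ↥⁅A ⊔ B, A ⊔ B⁆) ∨ Nab D := by
  obtain ⟨A, hA, B, hB, hne⟩ := h.nontriv
  by_cases hc : IsMulCommutative ↥⁅A ⊔ B, A ⊔ B⁆
  · exact Or.inl fun C hC E hE hne' => h.ab_eq A hA B hB hne C hC E hE hne' hc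
  · exact Or.inr fun C hC E hE hne' hc' => hc (h.ab_eq C hC E hE hne' A hA B hB hne hc')

section

variable (h : Setup p q D) {H A : Subgroup G} (hA : A ∈ D) (hAH : A ≤ H)
  (hodd : Odd (Nat.card (gen D H)))
include h hA hAH hodd

/-- For `r` in the derived group, `⁅r, a⁆` lies in the derived group of a pair group. -/
theorem comm_mem_pair {a : G} (ha : A = zpowers a) {r : G} (hr : r ∈ der D H) (hne : cj r A ≠ A) :
    ⁅r, a⁆ ∈ ⁅A ⊔ cj r A, A ⊔ cj r A⁆ := by
  obtain ⟨f, hf, hfB⟩ := h.exists_conj hA (h.conj_mem A hA r) (Ne.symm hne)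
  have hFle : A ⊔ cj r A ≤ gen D H :=
    sup_le (le_gen hA hAH) (cj_le_of_mem (der_le_gen hr) (le_gen hA hAH))
  have haA : a ∈ A := ha ▸ mem_zpowers a
  have hmem : f⁻¹ * (r * a * r⁻¹) * f ∈ A := mem_cj.1 (hfB ▸ conj_mem_cj haA)
  set x := f⁻¹ * (r * a * r⁻¹) * f with hx
  have e : ⁅r, a⁆ = ⁅f, x⁆ * (x * a⁻¹) := by
    simp only [hx, commutatorElement_def]; group
  have h1 : ⁅f, x⁆ ∈ ⁅A ⊔ cj r A, A ⊔ cj r A⁆ :=
    commutator_mem_commutator hf (mem_sup_left hmem)
  have h2 : x * a⁻¹ ∈ A ⊓ der D H := by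
    refine ⟨A.mul_mem hmem (A.inv_mem haA), ?_⟩
    rw [show x * a⁻¹ = ⁅f, x⁆⁻¹ * ⁅r, a⁆ by rw [e, inv_mul_cancel_left]]
    exact (der D H).mul_mem ((der D H).inv_mem (commutator_mono hFle hFle h1))
      (commutator_mem_commutator (der_le_gen hr) (le_gen hA hAH haA))
  rw [h.inf_der hA hAH hodd, mem_bot] at h2
  rw [e, h2, mul_one]
  exact h1

/-- The derived group of `gen D H` is a `q`-group. -/
theorem der_isPGroup : IsPGroup q (der D H) := by
  obtain ⟨a, rfl, ha⟩ := h.exists_gen hA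
  haveI := Fact.mk h.qprime
  haveI : Group.IsSolvable (gen D H) := OddOrderTheorem.solvable hodd
  have haW : a ∈ gen D H := le_gen hA hAH (mem_zpowers a)
  set a' : gen D H := ⟨a, haW⟩
  have hgen : normalClosure {a'} = (⊤ : Subgroup (gen D H)) := by
    refine eq_top_iff.2 fun w _ => ?_
    have h1 : gen D H ≤ (normalClosure {a'}).map (gen D H).subtype := by
      refine sSup_le fun B hB => ?_
      obtain ⟨r, hr, rfl⟩ := h.exists_point hA hAH hodd hB.1 hB.2
      rw [Hyp.cj_zpowers, zpowers_le]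
      have hm : (⟨r, der_le_gen hr⟩ : gen D H) * a' * (⟨r, der_le_gen hr⟩ : gen D H)⁻¹ ∈
          normalClosure {a'} :=
        normalClosure_normal.conj_mem a' (subset_normalClosure (Set.mem_singleton a')) _
      exact Subgroup.mem_map.2 ⟨_, hm, by simp [a']⟩
    obtain ⟨w', hw', e⟩ := h1 w.2
    rwa [Subtype.ext e] at hw'
  have hq' := commutator_isPGroup (W := gen D H) h.qprime (p := p) (a := a')
    (Subtype.ext (by push_cast; rw [← ha, pow_orderOf_eq_one])) hgen (fun x => by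
      obtain ⟨r, hr, y, hy, hxr⟩ := h.exists_mul hA hAH hodd x.2
      have he : ⁅(x : G), a⁆ = ⁅r, a⁆ := by
        obtain ⟨i, rfl⟩ := mem_zpowers_iff.1 hy
        rw [hxr]
        simp only [commutatorElement_def]
        group
      have hmem : ⁅(x : G), a⁆ = 1 ∨ ∃ B ∈ D, zpowers a ≠ B ∧
          ⁅(x : G), a⁆ ∈ ⁅zpowers a ⊔ B, zpowers a ⊔ B⁆ := by
        rw [he]
        by_cases hfix : cj r (zpowers a) = zpowers a
        · exact Or.inl (commutatorElement_eq_one_iff_mul_comm.2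
            (h.commute_of_cj_eq hA hAH hodd hr hfix (mem_zpowers a)))
        · exact Or.inr ⟨_, h.conj_mem _ hA r, Ne.symm hfix, h.comm_mem_pair hA hAH hodd rfl hr hfix⟩
      rcases hmem with h1 | ⟨B, hB, hne, h1⟩
      · exact ⟨0, Subtype.ext (by push_cast; rw [pow_zero, pow_one]; exact h1)⟩
      · obtain ⟨k, hk⟩ := h.isQ _ hA B hB hne ⟨_, h1⟩
        exact ⟨k, Subtype.ext (show ⁅(x : G), a⁆ ^ q ^ k = 1 from congrArg Subtype.val hk)⟩)
  have := hq'.map (gen D H).subtype
  rwa [Subgroup.map_subtype_commutator] at this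

/-- An abelian subgroup of the derived group normalised by a member is centralised by it. -/
theorem le_cen_of_comm (hnab : Nab D) {a : G} (ha : A = zpowers a) {N : Subgroup G}
    (hN : N ≤ der D H) (haN : a ∈ normalizer (N : Set G))
    (hcomm : ∀ x ∈ N, ∀ y ∈ N, x * y = y * x) : N ≤ cen a := by
  intro x hx
  refine mem_cen.2 ?_
  by_contra hxa
  have hne : cj x A ≠ A := fun e =>
    hxa (h.commute_of_cj_eq hA hAH hodd (hN hx) e (ha ▸ mem_zpowers a))
  refine hnab A hA _ (h.conj_mem A hA x) (Ne.symm hne) ⟨⟨fun y z => ?_⟩⟩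
  have hle : A ⊔ cj x A ≤ zpowers a ⊔ N := by
    rw [ha]; exact sup_le le_sup_left (cj_le_of_mem (mem_sup_right hx) le_sup_left)
  have hle' := (commutator_mono hle hle).trans (commutator_zpowers_sup_le haN)
  exact Subtype.ext (hcomm y (hle' y.2) z (hle' z.2))

/-- Normalised abelian subgroups of the derived group are central. -/
theorem le_centralizer_gen_of_comm (hnab : Nab D) {N : Subgroup G} (hN : N ≤ der D H)
    (hNn : gen D H ≤ normalizer (N : Set G)) (hcomm : ∀ x ∈ N, ∀ y ∈ N, x * y = y * x) :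
    N ≤ centralizer (gen D H : Set G) := by
  have key : ∀ B, B ∈ D → B ≤ H → B ≤ centralizer (N : Set G) := by
    intro B hB hBH
    obtain ⟨b, rfl, -⟩ := h.exists_gen hB
    rw [zpowers_le, mem_centralizer_iff]
    intro y hy
    exact mem_cen.1 (h.le_cen_of_comm hB hBH hodd hnab rfl hN
      (hNn (le_gen hB hBH (mem_zpowers b))) hcomm hy)
  exact le_centralizer_iff.1 (sSup_le fun B hB => key B hB.1 hB.2)

/-- With nonabelian pair groups the derived group has central commutators. -/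
theorem der_comm (hnab : Nab D) : ⁅der D H, der D H⁆ ≤ centralizer (gen D H : Set G) := by
  set R := der D H
  haveI := Fact.mk h.qprime
  haveI : Group.IsNilpotent R := (h.der_isPGroup hA hAH hodd).isNilpotent
  obtain ⟨n, hn⟩ := (isNilpotent_iff_lowerCentralSeries R).1 ‹_›
  have hle : ∀ i, R.lowerCentralSeries i ≤ R := lowerCentralSeries_le_self R
  have hnor : ∀ i, gen D H ≤ normalizer (R.lowerCentralSeries i : Set G) := by
    intro i
    induction i with
    | zero => exact gen_le_normalizer_der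
    | succ i ih =>
      intro g hg
      rw [mem_normalizer_iff_cj, Subgroup.lowerCentralSeries_succ, cj, map_commutator, ← cj, ← cj,
        cj_eq_of_mem_normalizer (ih hg), cj_eq_of_mem_normalizer (gen_le_normalizer_der hg)]
  have key : ∀ j, ∀ i, n ≤ i + j → 1 ≤ i → R.lowerCentralSeries i ≤ centralizer (gen D H : Set G) := by
    intro j
    induction j with
    | zero =>
      intro i hi _
      exact le_trans ((Subgroup.lowerCentralSeries_antitone R hi).trans hn.le) bot_le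
    | succ j ih =>
      intro i hi hi1
      have hnext := ih (i + 1) (by omega) (by omega)
      refine h.le_centralizer_gen_of_comm hA hAH hodd hnab (hle i) (hnor i) ?_
      have hz : ⁅⁅R.lowerCentralSeries i, R⁆, R⁆ = ⊥ :=
        commutator_eq_bot_iff_le_centralizer.2 (le_trans hnext (centralizer_le der_le_gen))
      have h1 : ⁅⁅R, R⁆, R.lowerCentralSeries i⁆ = ⊥ :=
        commutator_commutator_eq_bot_of_rotate (by rw [commutator_comm R]; exact hz) hz
      intro x hx y hy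
      have h2 : x ∈ ⁅R, R⁆ := Subgroup.lowerCentralSeries_antitone R hi1 hx
      have h3 := commutator_mem_commutator h2 hy
      rw [h1, mem_bot] at h3
      exact commutatorElement_eq_one_iff_mul_comm.1 h3
  exact key n 1 (by omega) le_rfl

/-- With abelian pair groups no element of the derived group commutes with a member. -/
theorem fixed_eq_one_of_ab (hab : ∀ A ∈ D, ∀ B ∈ D, A ≠ B → IsMulCommutative ↥⁅A ⊔ B, A ⊔ B⁆) {x : G}
    (hx : x ∈ der D H) (hfix : ∀ y ∈ A, x * y = y * x) : x = 1 := by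
  obtain ⟨a, rfl, ha⟩ := h.exists_gen hA
  have haW : a ∈ gen D H := le_gen hA hAH (mem_zpowers a)
  haveI := Fact.mk h.qprime
  have hR : IsPGroup q (der D H) := h.der_isPGroup hA hAH hodd
  have hgenR := h.der_le_closure hA hAH hodd rfl
  have hconj : ∀ z ∈ der D H, a * z * a⁻¹ ∈ der D H := fun z hz =>
    (mem_normalizer_iff.1 (gen_le_normalizer_der haW) z).1 hz
  let α : der D H ≃* der D H :=
    { toFun := fun z => ⟨a * z * a⁻¹, hconj z z.2⟩
      invFun := fun z => ⟨a⁻¹ * z * a,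
        (mem_normalizer_iff''.1 (gen_le_normalizer_der haW) z).1 z.2⟩
      left_inv := fun z => Subtype.ext (by simp [mul_assoc])
      right_inv := fun z => Subtype.ext (by simp [mul_assoc])
      map_mul' := fun z w => Subtype.ext (by simp [mul_assoc]) }
  have hit : ∀ (n : ℕ) (z : der D H),
      (((α : der D H → der D H)^[n] z : der D H) : G) = a ^ n * z * (a ^ n)⁻¹ := by
    intro n
    induction n with
    | zero => simp
    | succ n ih =>
      intro z
      rw [Function.iterate_succ_apply']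
      show a * _ * a⁻¹ = _
      rw [ih, pow_succ']
      group
  have hd : ∀ z : der D H, ((dFun α z : der D H) : G) = ⁅(z : G)⁻¹, a⁆ := fun z => by
    show (z : G)⁻¹ * (a * z * a⁻¹) = _
    rw [commutatorElement_def, inv_inv]; group
  have hgen : closure (Set.range (dFun α)) = ⊤ := by
    refine eq_top_iff.2 fun z _ => ?_
    have h1 : der D H ≤ (closure (Set.range (dFun α))).map (der D H).subtype := by
      refine hgenR.trans ((closure_le _).2 ?_)
      rintro _ ⟨r, hr, rfl⟩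
      refine ⟨dFun α ⟨r⁻¹, inv_mem hr⟩, subset_closure ⟨_, rfl⟩, ?_⟩
      show ((dFun α ⟨r⁻¹, inv_mem hr⟩ : der D H) : G) = _
      rw [hd, inv_inv]
    obtain ⟨w, hw, e⟩ := h1 z.2
    rwa [Subtype.ext e] at hw
  have hcomm : ∀ z, Commute (dFun α z) (α (dFun α z)) := by
    intro z
    apply Subtype.ext
    show ((dFun α z : der D H) : G) * (a * _ * a⁻¹) = a * _ * a⁻¹ * _
    rw [hd]
    by_cases hfix' : cj (z : G)⁻¹ (zpowers a) = zpowers a
    · rw [commutatorElement_eq_one_iff_mul_comm.2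
        (h.commute_of_cj_eq hA hAH hodd (inv_mem z.2) hfix' (mem_zpowers a))]
      group
    · have hK := hab _ hA _ (h.conj_mem _ hA (z : G)⁻¹) (Ne.symm hfix')
      have h1 := h.comm_mem_pair hA hAH hodd rfl (inv_mem z.2) hfix'
      have h2 : a * ⁅(z : G)⁻¹, a⁆ * a⁻¹ ∈
          ⁅zpowers a ⊔ cj (z : G)⁻¹ (zpowers a), zpowers a ⊔ cj (z : G)⁻¹ (zpowers a)⁆ :=
        (mem_normalizer_iff.1 (normalizer_commutator_ge_right
          (zpowers a ⊔ cj (z : G)⁻¹ (zpowers a)) (zpowers a ⊔ cj (z : G)⁻¹ (zpowers a))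
          (mem_sup_left (mem_zpowers a))) _).1 h1
      exact congrArg Subtype.val (hK.1.1 ⟨_, h1⟩ ⟨_, h2⟩)
  have := fixed_eq_one (x := ⟨x, hx⟩) h.qprime ((Nat.coprime_primes h.prime h.qprime).2 h.q_ne_p.symm)
    (h.prime.odd_of_ne_two h.ne_two) α hR
    (fun z => Subtype.ext (by rw [hit, ← ha, pow_orderOf_eq_one]; simp)) hgen hcomm
    (Subtype.ext (by
      show a * x * a⁻¹ = x
      rw [← hfix a (mem_zpowers a), mul_inv_cancel_right]))
  exact congrArg Subtype.val this

/-- Elements of the derived group commuting with a member are central in `gen D H`. -/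
theorem fixed_mem_centralizer {x : G} (hx : x ∈ der D H) (hfix : ∀ y ∈ A, x * y = y * x) :
    x ∈ centralizer (gen D H : Set G) := by
  obtain ⟨a, rfl, ha⟩ := h.exists_gen hA
  have haW : a ∈ gen D H := le_gen hA hAH (mem_zpowers a)
  haveI := Fact.mk h.qprime
  haveI := Fact.mk h.prime
  have hR : IsPGroup q (der D H) := h.der_isPGroup hA hAH hodd
  have hgenR := h.der_le_closure hA hAH hodd rfl
  rcases h.ab_or_nab with hab | hnab
  · rw [h.fixed_eq_one_of_ab hA hAH hodd hab hx hfix]; exact one_mem _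
  · -- nonabelian pair groups: commutators are central
    set Z := der D H ⊓ centralizer (gen D H : Set G) with hZ
    have hRR := h.der_comm hA hAH hodd hnab
    have hZc : ∀ z ∈ Z, ∀ g ∈ gen D H, g * z = z * g := fun z hz g hg =>
      mem_centralizer_iff.1 hz.2 g hg
    have hmul : ∀ r ∈ der D H, ∀ s ∈ der D H, ∃ z ∈ Z, ⁅r * s, a⁆ = ⁅r, a⁆ * ⁅s, a⁆ * z := by
      intro r hr s hs
      have hsa : ⁅s, a⁆ ∈ der D H := commutator_mem_commutator (der_le_gen hs) haW
      have hra : ⁅r, a⁆ ∈ der D H := commutator_mem_commutator (der_le_gen hr) haW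
      have c1 : ⁅r, ⁅s, a⁆⁆ ∈ Z :=
        ⟨commutator_le_self _ (commutator_mem_commutator hr hsa),
          hRR (commutator_mem_commutator hr hsa)⟩
      have c3 : ⁅⁅s, a⁆⁻¹, ⁅r, a⁆⁻¹⁆ ∈ Z :=
        ⟨commutator_le_self _ (commutator_mem_commutator (inv_mem hsa) (inv_mem hra)),
          hRR (commutator_mem_commutator (inv_mem hsa) (inv_mem hra))⟩
      have e1 : ⁅r * s, a⁆ = ⁅r, ⁅s, a⁆⁆ * (⁅s, a⁆ * ⁅r, a⁆) := by
        simp only [commutatorElement_def]; group
      have e2 : ⁅s, a⁆ * ⁅r, a⁆ = ⁅r, a⁆ * ⁅s, a⁆ * ⁅⁅s, a⁆⁻¹, ⁅r, a⁆⁻¹⁆ := by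
        simp only [commutatorElement_def]; group
      refine ⟨⁅r, ⁅s, a⁆⁆ * ⁅⁅s, a⁆⁻¹, ⁅r, a⁆⁻¹⁆, mul_mem c1 c3, ?_⟩
      rw [e1, e2, ← mul_assoc ⁅r, ⁅s, a⁆⁆,
        ← hZc _ c1 _ (mul_mem (der_le_gen hra) (der_le_gen hsa)), mul_assoc]
    -- every element of the derived group is `⁅r, a⁆ * z`
    let S : Subgroup G :=
      { carrier := {d | ∃ r ∈ der D H, ∃ z ∈ Z, d = ⁅r, a⁆ * z}
        one_mem' := ⟨1, one_mem _, 1, one_mem _, by simp⟩
        mul_mem' := by
          rintro _ _ ⟨r, hr, z, hz, rfl⟩ ⟨s, hs, z', hz', rfl⟩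
          obtain ⟨w, hw, e⟩ := hmul r hr s hs
          refine ⟨r * s, mul_mem hr hs, w⁻¹ * (z * z'), mul_mem (inv_mem hw) (mul_mem hz hz'), ?_⟩
          rw [e, mul_assoc _ w, mul_inv_cancel_left, mul_assoc, mul_assoc, ← mul_assoc z,
            ← hZc z hz _ (der_le_gen (commutator_mem_commutator (der_le_gen hs) haW)), mul_assoc]
        inv_mem' := by
          rintro _ ⟨r, hr, z, hz, rfl⟩
          obtain ⟨w, hw, e⟩ := hmul r hr r⁻¹ (inv_mem hr)
          rw [mul_inv_cancel, commutatorElement_one_left] at e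
          refine ⟨r⁻¹, inv_mem hr, w * z⁻¹, mul_mem hw (inv_mem hz), ?_⟩
          have e' : ⁅r, a⁆⁻¹ = ⁅r⁻¹, a⁆ * w := by
            rw [inv_eq_iff_mul_eq_one, ← mul_assoc, ← e]
          rw [mul_inv_rev, e', ← mul_assoc _ w, ← hZc _ (inv_mem hz) _ (mul_mem
            (der_le_gen (commutator_mem_commutator (der_le_gen (inv_mem hr)) haW))
            (der_le_gen hw.1)), mul_assoc] }
    have hxS : x ∈ S := (hgenR.trans ((closure_le _).2 fun y hy => by
      obtain ⟨r, hr, rfl⟩ := hy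
      exact ⟨r, hr, 1, one_mem _, (mul_one _).symm⟩)) hx
    obtain ⟨r, hr, z, hz, rfl⟩ := hxS
    have hra : ⁅r, a⁆ ∈ der D H := commutator_mem_commutator (der_le_gen hr) haW
    have hc : Commute ⁅r, a⁆ a := by
      have h1 : Commute (⁅r, a⁆ * z) a := hfix a (mem_zpowers a)
      have h2 : Commute z⁻¹ a := (show Commute a z from hZc z hz a haW).symm.inv_left
      simpa using h1.mul_left h2
    have hp1 : ⁅r, a⁆ ^ p = 1 := by
      have h1 : (⁅r, a⁆ * a) ^ p = 1 := by
        rw [show ⁅r, a⁆ * a = r * a * r⁻¹ by rw [commutatorElement_def]; group, conj_pow, ← ha,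
          pow_orderOf_eq_one, mul_one, mul_inv_cancel]
      rwa [hc.mul_pow, show a ^ p = 1 by rw [← ha, pow_orderOf_eq_one], mul_one] at h1
    have h1 : (⟨⁅r, a⁆, hra⟩ : der D H) = 1 :=
      eq_one_of_pow_coprime hR ((Nat.coprime_primes h.prime h.qprime).2 h.q_ne_p.symm)
        (Subtype.ext (by simpa using hp1))
    rw [show ⁅r, a⁆ = 1 from congrArg Subtype.val h1, one_mul]
    exact hz.2

end

/-- An element normalising two members acts on them with the same exponent. -/
theorem pow_eq_of_normalizes (h : Setup p q D) {a : G} {B : Subgroup G} (hA : zpowers a ∈ D)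
    (hB : B ∈ D) (hne : zpowers a ≠ B) {g : G} {i : ℤ} (hga : g * a * g⁻¹ = a ^ i)
    (hgB : cj g B = B) {b : G} (hb : b ∈ B) : g * b * g⁻¹ = b ^ i := by
  obtain ⟨f, hf, hfB⟩ := h.exists_conj hA hB hne
  obtain ⟨j, hj⟩ : ∃ j : ℤ, b = f * a ^ j * f⁻¹ := by
    rw [hfB, mem_cj, mem_zpowers_iff] at hb
    obtain ⟨j, hj⟩ := hb
    exact ⟨j, by rw [hj]; group⟩
  set F := zpowers a ⊔ B
  have haF : a ∈ F := mem_sup_left (mem_zpowers a)
  have hgA : cj g (zpowers a) ≤ zpowers a := by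
    rw [Hyp.cj_zpowers, zpowers_le, hga]; exact zpow_mem (mem_zpowers a) i
  have hgF : cj g F ≤ F := by
    rw [cj, Subgroup.map_sup]; exact sup_le_sup hgA hgB.le
  have hgK : cj g ⁅F, F⁆ ≤ ⁅F, F⁆ := by
    rw [cj, map_commutator]; exact commutator_mono hgF hgF
  have h1 : g * ⁅f, a ^ j⁆ * g⁻¹ ∈ ⁅F, F⁆ :=
    hgK (conj_mem_cj (commutator_mem_commutator hf (zpow_mem haF j)))
  have h2 : ⁅f, a ^ (i * j)⁆ ∈ ⁅F, F⁆ := commutator_mem_commutator hf (zpow_mem haF _)
  have key : (g * b * g⁻¹) * (b ^ i)⁻¹ ∈ ⁅F, F⁆ := by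
    have e : g * b * g⁻¹ * (b ^ i)⁻¹ = (g * ⁅f, a ^ j⁆ * g⁻¹) * ⁅f, a ^ (i * j)⁆⁻¹ := by
      have e1 : b = ⁅f, a ^ j⁆ * a ^ j := by rw [hj, commutatorElement_def]; group
      have e2 : b ^ i = ⁅f, a ^ (i * j)⁆ * a ^ (i * j) := by
        rw [hj, conj_zpow, ← zpow_mul, mul_comm j, commutatorElement_def]; group
      have e3 : g * b * g⁻¹ = (g * ⁅f, a ^ j⁆ * g⁻¹) * a ^ (i * j) := by
        rw [zpow_mul, ← hga, conj_zpow]
        nth_rewrite 1 [e1]
        group
      rw [e3, e2]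
      group
    rw [e]
    exact mul_mem h1 (inv_mem h2)
  have hmem : (g * b * g⁻¹) * (b ^ i)⁻¹ ∈ B :=
    B.mul_mem (hgB.le (conj_mem_cj hb)) (B.inv_mem (zpow_mem hb i))
  have hbot : B ⊓ ⁅F, F⁆ = ⊥ := by
    have := h.inf_der hB (H := F) le_sup_right (h.odd_pair hA hB hne)
    rwa [der, h.gen_pair hA hB] at this
  have h3 : (g * b * g⁻¹) * (b ^ i)⁻¹ ∈ B ⊓ ⁅F, F⁆ := ⟨hmem, key⟩
  rw [hbot, mem_bot, mul_inv_eq_one] at h3
  exact h3

end Setup

end Cfsg.Agent.FischerGen
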